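import Groth.Agent.H13FTors.Kill
import Groth.Agent.H13FSchQCoh.Main
import Groth.Agent.H8FSch.CohUnion

/-!
# Sections of ind-coherent modules over smaller affine opens
-/

set_option autoImplicit false
set_option linter.style.haveILetI false
set_option linter.unusedSectionVars false
set_option backward.isDefEq.respectTransparency false

universe u

open CategoryTheory CategoryTheory.Limits AlgebraicGeometry TopologicalSpace Opposite TensorProduct

namespace Groth.Agent.H13FTors

open H15Site.ModTensor H15Site.ModRel H15Site.LocGen H24FMod H24Formal3 H24Formal3.OpenRes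

attribute [local instance 10000] H15Site.SiteInst.hasSheafifySite H15Site.SiteInst.hasWeakSheafifySite

variable {𝔛 : FSch.Sys.{u}} (hL : 𝔛.IsLocNoethFormal) {M : FSch.ModF 𝔛 hL.1} {A B U : (𝔛.X 0).Opens}

/-- Sections over a smaller open are the base change. -/
def IsBC (M : FSch.ModF 𝔛 hL.1) (l : B ⟶ A) : Prop := Function.Bijective (bcMap hL M l)

/-- Over a quasi-compact open every section of a directed union comes from a stage. -/
theorem exists_sec_rep {Λ : Type u} [SmallCategory Λ] [IsFiltered Λ] (pres : ColimitPresentation Λ M)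
    (hm : ∀ j, Mono (pres.ι.app j)) {V : (𝔛.X 0).Opens} (hV : IsCompact (V : Set (𝔛.X 0)))
    (t : Sec hL.1 M V) : ∃ (j : Λ) (s : Sec hL.1 (pres.diag.obj j) V), secMap (pres.ι.app j) V s = t := by
  classical
  obtain ⟨S, hS, hS'⟩ := H15Site.ColimSect.exists_local_rep pres.isColimit (V := V) t
  choose W g hg hx using fun x : {x // x ∈ V} => hS x.1 x.2
  choose i s hs using fun x => hS' (g x) (hg x)
  obtain ⟨T, hT⟩ := hV.elim_finite_subcover (fun x => (W x : Set (𝔛.X 0))) (fun x => (W x).isOpen)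
    fun x hx' => Set.mem_iUnion.2 ⟨⟨x, hx'⟩, hx ⟨x, hx'⟩⟩
  obtain ⟨j, hj⟩ := IsFiltered.sup_objs_exists (T.image i)
  haveI := hm j
  let π := cokernel.π (pres.ι.app j)
  have hπ : secMap π V t = 0 := by
    refine separated_forg (cokernel (pres.ι.app j)) (X := op V)
      (⟨fun Z _ => ∃ x ∈ T, Z ≤ W x, fun {Z Z'} _ ⟨x, hx, h⟩ k => ⟨x, hx, (leOfHom k).trans h⟩⟩ : Sieve V)
      (fun y hy => ?_) _ _ fun Z k hk => ?_
    · obtain ⟨x, hxt, hyx⟩ := Set.mem_iUnion₂.1 (hT hy)
      exact ⟨W x, g x, ⟨x, hxt, le_rfl⟩, hyx⟩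
    · obtain ⟨x, hxt, hle⟩ := hk
      obtain ⟨f⟩ : Nonempty (i x ⟶ j) := ⟨(hj (Finset.mem_image.2 ⟨x, hxt, rfl⟩)).some⟩
      rw [rs_zero]
      refine (rs_app π.val k.op t).symm.trans ?_
      rw [show k.op = (g x).op ≫ (homOfLE hle).op from Subsingleton.elim _ _, ← rs_rs]
      refine (congrArg (fun z => (π.val.app (op Z)).hom (rs ((forg (𝔛.Osh hL.1)).obj M) (homOfLE hle).op z))
        (hs x).symm).trans ?_
      refine (rs_app π.val (homOfLE hle).op _).trans ?_
      refine (congrArg (rs _ (homOfLE hle).op) ?_).trans (rs_zero _ _)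
      refine Eq.trans ?_ (congrArg (fun q : pres.diag.obj (i x) ⟶ cokernel (pres.ι.app j) =>
        (q.val.app (op (W x))).hom (s x)) (show pres.ι.app (i x) ≫ π = 0 by
          rw [← pres.w f, Category.assoc, cokernel.condition, comp_zero]))
      rfl
  obtain ⟨y, hy⟩ := exists_kerSec π (W := op V) t hπ
  haveI : IsIso (kernel.lift π (pres.ι.app j) (cokernel.condition _)) := by
    haveI : Mono (kernel.lift π (pres.ι.app j) (cokernel.condition _)) := mono_of_mono_fac (kernel.lift_ι _ _ _)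
    haveI : Epi (kernel.lift π (pres.ι.app j) (cokernel.condition _)) :=
      (ShortComplex.mk _ π (cokernel.condition _)).exact_iff_epi_kernel_lift.1
        (ShortComplex.exact_cokernel _)
    exact isIso_of_mono_of_epi _
  let q := inv (kernel.lift π (pres.ι.app j) (cokernel.condition _))
  refine ⟨j, secMap q V y, ?_⟩
  refine Eq.trans ?_ hy
  exact congrArg (fun r : kernel π ⟶ M => (r.val.app (op V)).hom y)
    (show q ≫ pres.ι.app j = kernel.ι π by rw [IsIso.inv_comp_eq, kernel.lift_ι])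

/-- An ind-coherent module has base change between affine opens. -/
theorem isBC_of_ind (hM : ObjectProperty.ind.{u} (H8FSch.Coh 𝔛 hL.1) M) (hA : IsAffineOpen A)
    (hB : IsAffineOpen B) (l : B ⟶ A) : IsBC hL M l := by
  classical
  obtain ⟨Λ, _, _, pres, hD, hm⟩ := H8FSch.exists_monoPresentation hL hM
  letI := (rsO hL l).toAlgebra
  let ι : ∀ j, Sec hL.1 (pres.diag.obj j) A →ₗ[OSec hL.1 A] Sec hL.1 M A := fun j =>
    ((pres.ι.app j).val.app (op A)).hom
  have hnat : ∀ j (T : OSec hL.1 B ⊗[OSec hL.1 A] Sec hL.1 (pres.diag.obj j) A),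
      bcMap hL M l ((ι j).lTensor (OSec hL.1 B) T) =
        secMap (pres.ι.app j) B (bcMap hL (pres.diag.obj j) l T) := fun j T => by
    induction T using TensorProduct.induction_on with
    | zero => rw [map_zero, map_zero, map_zero, map_zero]
    | tmul a x =>
      rw [LinearMap.lTensor_tmul, bcMap_tmul, bcMap_tmul]
      refine Eq.trans ?_ (((pres.ι.app j).val.app (op B)).hom.map_smul a _).symm
      exact congrArg (a • ·) (rs_app (pres.ι.app j).val l.op x).symm
    | add x y hx hy => rw [map_add, map_add, hx, hy, map_add, map_add]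
  have hrep : ∀ T : OSec hL.1 B ⊗[OSec hL.1 A] Sec hL.1 M A, ∃ j T', (ι j).lTensor (OSec hL.1 B) T' = T := by
    have step : ∀ {i j : Λ} (f : i ⟶ j) (T' : OSec hL.1 B ⊗[OSec hL.1 A] Sec hL.1 (pres.diag.obj i) A),
        ∃ T'', (ι j).lTensor (OSec hL.1 B) T'' = (ι i).lTensor (OSec hL.1 B) T' := fun {i j} f T' => by
      refine ⟨((pres.diag.map f).val.app (op A)).hom.lTensor _ T', ?_⟩
      rw [← LinearMap.comp_apply, ← LinearMap.lTensor_comp]
      congr 2
      exact LinearMap.ext fun x =>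
        congrArg (fun q : pres.diag.obj i ⟶ M => (q.val.app (op A)).hom x) (pres.w f)
    intro T
    induction T using TensorProduct.induction_on with
    | zero =>
      haveI : Nonempty Λ := IsFiltered.nonempty
      exact ⟨Classical.arbitrary Λ, 0, map_zero _⟩
    | tmul a x =>
      obtain ⟨j, s, hs⟩ := exists_sec_rep hL pres hm hA.isCompact x
      exact ⟨j, a ⊗ₜ s, (LinearMap.lTensor_tmul _ _ _ _).trans (congrArg (fun z => a ⊗ₜ z) hs)⟩
    | add x y hx hy =>
      obtain ⟨i, Ti, rfl⟩ := hx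
      obtain ⟨j, Tj, rfl⟩ := hy
      obtain ⟨Ti', hi⟩ := step (IsFiltered.leftToMax i j) Ti
      obtain ⟨Tj', hj⟩ := step (IsFiltered.rightToMax i j) Tj
      exact ⟨IsFiltered.max i j, Ti' + Tj', by rw [map_add, hi, hj]⟩
  refine ⟨(injective_iff_map_eq_zero _).2 fun T hT => ?_, fun y => ?_⟩
  · obtain ⟨j, T', rfl⟩ := hrep T
    haveI := hm j
    rw [hnat] at hT
    rw [(bijective_bcMap hL (hD j) hA hB l).1 (a₂ := 0)
      ((injective_app_of_mono hL (pres.ι.app j) B (hT.trans (map_zero _).symm)).trans (map_zero _).symm),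
      map_zero]
  · obtain ⟨j, s, rfl⟩ := exists_sec_rep hL pres hm hB.isCompact y
    obtain ⟨T', rfl⟩ := (bijective_bcMap hL (hD j) hA hB l).2 s
    exact ⟨_, hnat j T'⟩

/-- Base change descends from the restricted formal scheme. -/
theorem isBC_of_resF {A' B' : Opens ((𝔛.restrictOpen hL.1 U).X 0).carrier} (g : B' ⟶ A')
    (h : IsBC (Chart.isLocNoethFormal_restrictOpen hL U) ((resF hL U).obj M) g) :
    IsBC hL M ((imU hL U).map g) := by
  let hU := Chart.isLocNoethFormal_restrictOpen hL U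
  letI := (rsO hU g).toAlgebra
  letI := (rsO hL ((imU hL U).map g)).toAlgebra
  let φ : ∀ C : Opens ((𝔛.restrictOpen hL.1 U).X 0).carrier, OSec hU.1 C →+* OSec hL.1 ((imU hL U).obj C) :=
    fun C => ((phi hL U).hom.app (op C)).hom
  have hφ : ∀ C c, ∃ a, φ C a = c := fun C c => ⟨_, phi_psi hL U C c⟩
  let Φ : OSec hU.1 B' ⊗[OSec hU.1 A'] Sec hU.1 ((resF hL U).obj M) A' →+
      OSec hL.1 ((imU hL U).obj B') ⊗[OSec hL.1 ((imU hL U).obj A')] Sec hL.1 M ((imU hL U).obj A') :=
    TensorProduct.liftAddHom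
      (AddMonoidHom.mk' (fun a => AddMonoidHom.mk'
          (fun x => φ B' a ⊗ₜ (show Sec hL.1 M ((imU hL U).obj A') from x))
          fun x y => TensorProduct.tmul_add _ _ _)
        fun a b => AddMonoidHom.ext fun x => by
          show φ B' (a + b) ⊗ₜ _ = φ B' a ⊗ₜ _ + φ B' b ⊗ₜ _
          rw [map_add, TensorProduct.add_tmul])
      fun r a x => by
        show φ B' (rsO hU g r * a) ⊗ₜ[OSec hL.1 ((imU hL U).obj A')] (show Sec hL.1 M ((imU hL U).obj A') from x) =
          φ B' a ⊗ₜ[OSec hL.1 ((imU hL U).obj A')] (φ A' r • (show Sec hL.1 M ((imU hL U).obj A') from x))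
        rw [← TensorProduct.smul_tmul, map_mul]
        exact congrArg (fun z => (z * φ B' a) ⊗ₜ _) (phi_rr hL U g r)
  have hbc : ∀ T, bcMap hL M ((imU hL U).map g) (Φ T) = bcMap hU ((resF hL U).obj M) g T := fun T => by
    induction T using TensorProduct.induction_on with
    | zero => rw [map_zero, map_zero, map_zero]
    | tmul a x => rw [bcMap_tmul]; exact bcMap_tmul hL _ _ _
    | add x y hx hy => rw [map_add, map_add, hx, hy, map_add]
  have hΦ : Function.Surjective Φ := fun T => by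
    induction T using TensorProduct.induction_on with
    | zero => exact ⟨0, map_zero _⟩
    | tmul a x =>
      obtain ⟨a', rfl⟩ := hφ B' a
      exact ⟨a' ⊗ₜ x, rfl⟩
    | add x y hx hy =>
      obtain ⟨a, rfl⟩ := hx
      obtain ⟨b, rfl⟩ := hy
      exact ⟨a + b, map_add _ _ _⟩
  refine ⟨(injective_iff_map_eq_zero _).2 fun T hT => ?_, fun y => ?_⟩
  · obtain ⟨T', rfl⟩ := hΦ T
    rw [hbc] at hT
    rw [h.1 (a₂ := 0) (hT.trans (map_zero _).symm), map_zero]
  · obtain ⟨T', hT'⟩ := h.2 y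
    exact ⟨Φ T', (hbc T').trans hT'⟩

/-- Where a module is ind-coherent it has base change. -/
theorem isBC_of_indOn (hM : H13FSchQCoh.IndOn hL U M) (hA : IsAffineOpen A) (hAU : A ≤ U)
    (hB : IsAffineOpen B) (l : B ⟶ A) : IsBC hL M l := by
  have haff : ∀ {C : (𝔛.X 0).Opens}, IsAffineOpen C → C ≤ U →
      IsAffineOpen ((Opens.map (Restrict.jb hL U)).obj C : ((𝔛.restrictOpen hL.1 U).X 0).Opens) := fun {C} hC hCU =>
    hC.preimage_of_isOpenImmersion (𝔛.lvU hL.1 0 U).ι (fun x hx => by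
      rw [Scheme.Opens.opensRange_ι]; exact (Restrict.lvU_zero hL U).ge (hCU hx))
  have hBU := (leOfHom l).trans hAU
  have h := isBC_of_resF hL (M := M) ((Opens.map (Restrict.jb hL U)).map l)
    (isBC_of_ind (Chart.isLocNoethFormal_restrictOpen hL U) hM (haff hA hAU) (haff hB hBU) _)
  have key : ∀ {A₁ B₁ : (𝔛.X 0).Opens} (l₁ : B₁ ⟶ A₁), A₁ = A → B₁ = B → IsBC hL M l₁ → IsBC hL M l := by
    rintro A₁ B₁ l₁ rfl rfl h₁
    rwa [Subsingleton.elim l l₁]
  exact key _ (im_pre hL U hAU) (im_pre hL U hBU) h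

end Groth.Agent.H13FTors
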