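import Groth.Agent.H13FTors.Main
import Groth.Agent.H8FSch.Compact

/-!
# The category of quasi-coherent torsion modules
-/

set_option autoImplicit false
set_option linter.style.haveILetI false
set_option linter.unusedSectionVars false
set_option backward.isDefEq.respectTransparency false

universe u

open CategoryTheory CategoryTheory.Limits AlgebraicGeometry TopologicalSpace Opposite

namespace Groth.Agent.H13FTors

open H15Site.ModTensor H15Site.ModRel H24FMod

attribute [local instance 10000] H15Site.SiteInst.hasSheafifySite H15Site.SiteInst.hasWeakSheafifySite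

variable {𝔛 : FSch.Sys.{u}} (hL : 𝔛.IsLocNoethFormal)

theorem isQCT_iff (M : FSch.ModF 𝔛 hL.1) : FTors.IsQCT 𝔛 hL.1 M ↔
    FTors.IsTorsF 𝔛 hL.1 M ∧ ObjectProperty.ind.{u} (H8FSch.Coh 𝔛 hL.1) M :=
  ⟨fun h => ⟨h.1, ind_of_isQCT hL h⟩, fun ⟨h₁, Λ, _, _, pres, hp⟩ =>
    ⟨h₁, H8FSch.isQuasicoherent_colim hL pres.isColimit hp⟩⟩

theorem isQCT_closed_colimits (J : Type u) [SmallCategory J] :
    (FTors.IsQCT 𝔛 hL.1).IsClosedUnderColimitsOfShape J := by
  refine ⟨?_⟩
  rintro X ⟨p⟩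
  haveI := H8FSch.isLeftAdjoint_ι' hL
  haveI := H8FSch.Coreflect.isClosedUnderColimitsOfShape (Q := ObjectProperty.ind.{u} (H8FSch.Coh 𝔛 hL.1)) J
  refine (isQCT_iff hL X).2 ⟨isTors_of_isColimit hL p.isColimit fun j => (p.prop_diag_obj j).1, ?_⟩
  exact ObjectProperty.prop_of_isColimit _ p.isColimit fun j => ind_of_isQCT hL (p.prop_diag_obj j)

theorem isClosedUnderIsomorphisms_isQCT : (FTors.IsQCT 𝔛 hL.1).IsClosedUnderIsomorphisms := ⟨fun {X Y} e h =>
  (isQCT_iff hL Y).2 ⟨isTors_of_isColimit hL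
      (D := (Functor.const (Discrete PUnit.{u+1})).obj X) (c := ⟨Y, Discrete.natTrans fun _ => e.hom⟩)
      { desc := fun s => e.inv ≫ s.ι.app ⟨PUnit.unit⟩
        fac := fun s j => e.hom_inv_id_assoc _
        uniq := fun s m hm => by rw [← hm ⟨PUnit.unit⟩]; exact (e.inv_hom_id_assoc m).symm } fun _ => h.1,
    (ObjectProperty.ind.{u} (H8FSch.Coh 𝔛 hL.1)).prop_of_iso e (ind_of_isQCT hL h)⟩⟩

theorem exists_coreflection (M : FSch.ModF 𝔛 hL.1) :
    ∃ (R : FSch.ModF 𝔛 hL.1) (ε : R ⟶ M), FTors.IsQCT 𝔛 hL.1 R ∧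
      ∀ N, FTors.IsQCT 𝔛 hL.1 N → ∀ g : N ⟶ M, ∃! h : N ⟶ R, h ≫ ε = g := by
  haveI := H8FSch.isLeftAdjoint_ι' hL
  let P := ObjectProperty.ind.{u} (H8FSch.Coh 𝔛 hL.1)
  let adj := Adjunction.ofIsLeftAdjoint P.ι
  let Q := (P.ι.rightAdjoint.obj M).obj
  let η : Q ⟶ M := adj.counit.app M
  obtain ⟨Λ, _, _, pres, hp⟩ := (P.ι.rightAdjoint.obj M).property
  haveI : SheafOfModules.IsQuasicoherent.{u} Q := H8FSch.isQuasicoherent_colim hL pres.isColimit hp
  refine ⟨(FTors.gammaT 𝔛 hL.1).obj Q, (FTors.gammaTι 𝔛 hL.1).app Q ≫ η, isQCT_gamma hL, fun N hN g => ?_⟩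
  let A : P.FullSubcategory := ⟨N, ind_of_isQCT hL hN⟩
  let h := ((adj.homEquiv A M) g).hom
  have hh : h ≫ η = g :=
    ((adj.homEquiv_counit _ _ _).symm.trans ((adj.homEquiv A M).symm_apply_apply g) :)
  obtain ⟨ψ, hψ⟩ := exists_lift_gamma hL hN.1 h
  refine ⟨ψ, by show ψ ≫ _ ≫ η = g; rw [← Category.assoc, hψ, hh], fun ψ' hψ' => ?_⟩
  haveI := mono_gammaι hL Q
  refine (cancel_mono ((FTors.gammaTι 𝔛 hL.1).app Q)).1 ?_
  rw [hψ]
  have e : (adj.homEquiv A M).symm (ObjectProperty.homMk (ψ' ≫ (FTors.gammaTι 𝔛 hL.1).app Q)) = g :=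
    (adj.homEquiv_counit _ _ _).trans ((Category.assoc _ _ _).trans hψ')
  show ψ' ≫ _ = ((adj.homEquiv A M) g).hom
  rw [← e, Equiv.apply_symm_apply]
  rfl

theorem isLeftAdjoint_ι : (FTors.IsQCT 𝔛 hL.1).ι.IsLeftAdjoint := by
  haveI : ∀ M : FSch.ModF 𝔛 hL.1, HasTerminal (CostructuredArrow (FTors.IsQCT 𝔛 hL.1).ι M) := fun M => by
    obtain ⟨R, ε, hR, h⟩ := exists_coreflection hL M
    let RR : (FTors.IsQCT 𝔛 hL.1).FullSubcategory := ⟨R, hR⟩
    let ε' : (FTors.IsQCT 𝔛 hL.1).ι.obj RR ⟶ M := ε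
    let E : CostructuredArrow (FTors.IsQCT 𝔛 hL.1).ι M := CostructuredArrow.mk ε'
    let g : ∀ A : CostructuredArrow (FTors.IsQCT 𝔛 hL.1).ι M, A.left.obj ⟶ R := fun A =>
      (h A.left.obj A.left.property A.hom).choose
    refine (IsTerminal.ofUniqueHom (Y := E)
      (fun A => CostructuredArrow.homMk (f := A) (f' := E) (ObjectProperty.homMk (g A))
        (h A.left.obj A.left.property A.hom).choose_spec.1) fun A m => ?_).hasTerminal
    refine CostructuredArrow.hom_ext _ _ (ObjectProperty.hom_ext _ ?_)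
    exact (h A.left.obj A.left.property A.hom).choose_spec.2 _ (CostructuredArrow.w m)
  exact isLeftAdjoint_of_costructuredArrowTerminals _

open H15Site in
/-- Morphisms out of a finitely presented module agreeing in a filtered colimit agree at a stage. -/
theorem exists_eq_stage [CompactSpace (𝔛.X 0)] {F : FSch.ModF 𝔛 hL.1} (hF : FSch.IsCohF 𝔛 hL.1 F)
    {Λ : Type u} [SmallCategory Λ] [IsFiltered Λ] {D : Λ ⥤ FSch.ModF 𝔛 hL.1} {c : Cocone D} (hc : IsColimit c)
    {i : Λ} (φ : F ⟶ D.obj i) (h : φ ≫ c.ι.app i = 0) : ∃ (k : Λ) (f : i ⟶ k), φ ≫ D.map f = 0 := by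
  haveI := hL.2.2 0
  haveI : IsNoetherian (𝔛.X 0) := {}
  haveI : SheafOfModules.IsFinitePresentation (R := ModSite.ringSh (𝔛.Osh hL.1)) F := hF
  let R := ModSite.restr (𝔛.Osh hL.1) (⊤ : (𝔛.X 0).Opens)
  obtain ⟨S, hS, hS'⟩ := LocHom.exists_local_eq hc (R.map φ) (R.map (0 : F ⟶ D.obj i)) (by
    rw [← Functor.map_comp, ← Functor.map_comp, h, zero_comp])
  obtain ⟨m, V, g, hg, hV⟩ := H8FSch.exists_finite_cover hS
  choose j e he using fun a => hS' (g a) (hg a)
  obtain ⟨k, ek, hek⟩ := H8FSch.exists_coeq i j e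
  refine ⟨k, ek, HomGlue.hom_ext_coversTop (H8FSch.coversTop_of_cover (V := V) fun x => hV x trivial) fun a => ?_⟩
  obtain ⟨q, hq⟩ := hek a
  have E := congrArg (· ≫ (ModSite.restr (𝔛.Osh hL.1) (V a)).map (D.map q)) (he a)
  simp only [R, SitePerfLift.tr_map, ← Functor.map_comp, Category.assoc, ← D.map_comp, hq, zero_comp] at E
  exact E

/-- Any coreflector to quasi-coherent torsion modules preserves filtered colimits. -/
theorem preservesColimit [CompactSpace (𝔛.X 0)]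
    (Q : FSch.ModF 𝔛 hL.1 ⥤ (FTors.IsQCT 𝔛 hL.1).FullSubcategory) (adj : (FTors.IsQCT 𝔛 hL.1).ι ⊣ Q)
    (J : Type u) [SmallCategory J] [IsFiltered J] (K : J ⥤ FSch.ModF 𝔛 hL.1) :
    PreservesColimit K Q := by
  let P := FTors.IsQCT 𝔛 hL.1
  haveI := isQCT_closed_colimits hL J
  haveI := isClosedUnderIsomorphisms_isQCT hL
  haveI := H10Coh.isGrothendieckAbelian_sheafOfModules (ModSite.ringSh (𝔛.Osh hL.1))
  haveI := hL.2.2 0
  haveI : IsNoetherian (𝔛.X 0) := {}
  haveI : HasColimitsOfSize.{u, u} (FSch.ModF 𝔛 hL.1) := IsGrothendieckAbelian.hasColimits _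
  let c := colimit.cocone K
  have hc : IsColimit c := colimit.isColimit K
  let ε : ∀ M, (Q.obj M).obj ⟶ M := fun M => adj.counit.app M
  have hlift : ∀ (N M : FSch.ModF 𝔛 hL.1), P N → ∀ g : N ⟶ M, ∃! h : N ⟶ (Q.obj M).obj, h ≫ ε M = g :=
    fun N M hN g => by
      refine ⟨((adj.homEquiv ⟨N, hN⟩ M) g).hom,
        ((adj.homEquiv_counit _ _ _).symm.trans ((adj.homEquiv ⟨N, hN⟩ M).symm_apply_apply g) :), fun h hh => ?_⟩
      have e : (adj.homEquiv ⟨N, hN⟩ M).symm (ObjectProperty.homMk h) = g := (adj.homEquiv_counit _ _ _).trans hh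
      rw [← e, Equiv.apply_symm_apply]
      rfl
  let D := K ⋙ Q ⋙ P.ι
  let C := colimit.cocone D
  have hC : IsColimit C := colimit.isColimit D
  have hCP : P C.pt := ObjectProperty.prop_of_isColimit _ hC fun j => (Q.obj (K.obj j)).property
  let κ : C.pt ⟶ (Q.obj c.pt).obj := hC.desc ((Q ⋙ P.ι).mapCocone c)
  have hκ : ∀ j, C.ι.app j ≫ κ = (Q.map (c.ι.app j)).hom := fun j => hC.fac _ j
  have hεn : ∀ j, (Q.map (c.ι.app j)).hom ≫ ε c.pt = ε (K.obj j) ≫ c.ι.app j := fun j =>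
    adj.counit.naturality (c.ι.app j)
  have hκε : ∀ j, C.ι.app j ≫ κ ≫ ε c.pt = ε (K.obj j) ≫ c.ι.app j := fun j => by
    rw [← Category.assoc, hκ, hεn]
  have small : ∀ G : FSch.ModF 𝔛 hL.1, FSch.IsCohF 𝔛 hL.1 G → FTors.IsTorsF 𝔛 hL.1 G →
      (∀ g : G ⟶ c.pt, ∃ x : G ⟶ C.pt, x ≫ κ ≫ ε c.pt = g) ∧ ∀ x : G ⟶ C.pt, x ≫ κ ≫ ε c.pt = 0 → x = 0 := by
    intro G hG hGt
    have hGP : P G := (isQCT_iff hL G).2 ⟨hGt, (H8FSch.Coh 𝔛 hL.1).le_ind _ hG⟩
    haveI : SheafOfModules.IsFinitePresentation (R := ModSite.ringSh (𝔛.Osh hL.1)) G := hG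
    refine ⟨fun g => ?_, fun x hx => ?_⟩
    · obtain ⟨k, ψ, hψ⟩ := H8FSch.exists_lift hc g
      obtain ⟨χ, hχ, -⟩ := hlift G (K.obj k) hGP ψ
      exact ⟨χ ≫ C.ι.app k, by rw [Category.assoc, hκε, ← Category.assoc, hχ, hψ]⟩
    · obtain ⟨k, ψ, rfl⟩ := H8FSch.exists_lift hC x
      rw [Category.assoc, hκε, ← Category.assoc] at hx
      obtain ⟨l, f, hf⟩ := exists_eq_stage hL hG hc (ψ ≫ ε (K.obj k)) hx
      have h0 : ψ ≫ D.map f = 0 := by
        refine (hlift G (K.obj l) hGP 0).unique ?_ zero_comp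
        rw [Category.assoc]
        show ψ ≫ (Q.map (K.map f)).hom ≫ ε (K.obj l) = 0
        rw [show (Q.map (K.map f)).hom ≫ ε (K.obj l) = ε (K.obj k) ≫ K.map f from adj.counit.naturality (K.map f),
          ← Category.assoc, hf]
      rw [← C.w f, ← Category.assoc, h0, zero_comp]
  have all : ∀ N, P N → ∀ g : N ⟶ c.pt, ∃! x : N ⟶ C.pt, x ≫ κ ≫ ε c.pt = g := by
    intro N hN g
    obtain ⟨Λ, _, _, pres, hp, hm⟩ := H8FSch.exists_monoPresentation hL (ind_of_isQCT hL hN)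
    have ht : ∀ j, FTors.IsTorsF 𝔛 hL.1 (pres.diag.obj j) := fun j => by
      haveI := hm j
      have hinj := injective_app_of_mono hL (pres.ι.app j)
      intro V s
      refine (Opens.grothendieckTopology _).superset_covering ?_ (hN.1 V ((pres.ι.app j).val.app (op V) s))
      rintro W k ⟨m, hm'⟩
      refine ⟨m, fun W' l a ha => hinj W' ?_⟩
      refine Eq.trans ?_ ((hm' l a ha).trans (map_zero ((pres.ι.app j).val.app (op W')).hom).symm)
      refine (((pres.ι.app j).val.app (op W')).hom.map_smul a _).trans (congrArg (a • ·) ?_)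
      exact (FTors.res_hom (M := pres.diag.obj j) (N := N) (pres.ι.app j) l _).symm.trans
        (congrArg (FTors.res N l) (FTors.res_hom (M := pres.diag.obj j) (N := N) (pres.ι.app j) k s).symm)
    have inj : ∀ x : N ⟶ C.pt, x ≫ κ ≫ ε c.pt = 0 → x = 0 := fun x hx => pres.isColimit.hom_ext fun j => by
      rw [comp_zero]
      refine (small _ (hp j) (ht j)).2 _ ?_
      rw [Category.assoc, hx, comp_zero]
    choose x hx using fun j => (small _ (hp j) (ht j)).1 (pres.ι.app j ≫ g)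
    let s : Cocone pres.diag :=
      { pt := C.pt
        ι :=
          { app := x
            naturality := fun i j f => by
              refine (sub_eq_zero.1 ((small _ (hp i) (ht i)).2 _ ?_)).trans (Category.comp_id _).symm
              rw [Preadditive.sub_comp, Category.assoc, hx, hx, sub_eq_zero, ← Category.assoc, pres.w f] } }
    refine ⟨pres.isColimit.desc s, pres.isColimit.hom_ext fun j => ?_, fun y hy => ?_⟩
    · rw [← Category.assoc, pres.isColimit.fac]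
      exact hx j
    · refine sub_eq_zero.1 (inj _ ?_)
      rw [Preadditive.sub_comp, hy, sub_eq_zero]
      refine pres.isColimit.hom_ext fun j => ?_
      rw [← Category.assoc (pres.ι.app j), pres.isColimit.fac]
      exact (hx j).symm
  obtain ⟨θ, hθ, -⟩ := all _ (Q.obj c.pt).property (ε c.pt)
  haveI : IsIso κ := by
    refine ⟨θ, (all C.pt hCP (κ ≫ ε c.pt)).unique ?_ (Category.id_comp _), ?_⟩
    · rw [Category.assoc, hθ]
    · exact (hlift _ c.pt (Q.obj c.pt).property (ε c.pt)).unique (by rw [Category.assoc, hθ]) (Category.id_comp _)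
  refine preservesColimit_of_preserves_colimit_cocone hc ?_
  refine isColimitOfReflects P.ι ?_
  exact IsColimit.ofIsoColimit hC (Cocone.ext (asIso κ) hκ)

end Groth.Agent.H13FTors
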