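import Groth.Agent.H13FTors.Kill
import Groth.Agent.H24FMod.Level

/-!
# Modules annihilated by an open ideal are modules on a level
-/

set_option autoImplicit false
set_option linter.style.haveILetI false
set_option linter.unusedSectionVars false
set_option backward.isDefEq.respectTransparency false

universe u

open CategoryTheory CategoryTheory.Limits AlgebraicGeometry TopologicalSpace Opposite

namespace Groth.Agent.H13FTors

open H15Site.ModTensor H15Site.ModRel H24FMod

attribute [local instance 10000] H15Site.SiteInst.hasSheafifySite H15Site.SiteInst.hasWeakSheafifySite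

variable {𝔛 : FSch.Sys.{u}} (hL : 𝔛.IsLocNoethFormal) (n : ℕ) (M : FSch.ModF 𝔛 hL.1)

/-- The constant family with value the `n`-th open ideal. -/
noncomputable def killFam : FTors.IdealFam (𝔛.Osh hL.1) where
  ideal _ U := (FTors.openIdealFam 𝔛 hL.1).ideal n U
  antitone' _ _ := le_rfl
  map_mem' _ _ _ g a ha := (FTors.openIdealFam 𝔛 hL.1).map_mem n g ha

/-- The submodule of sections annihilated by the `n`-th open ideal. -/
noncomputable abbrev killed : FSch.ModF 𝔛 hL.1 := (FTors.gamma (𝔛.Osh hL.1) (killFam hL n)).obj M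

/-- The inclusion of the annihilated sections. -/
noncomputable abbrev killedι : killed hL n M ⟶ M := (FTors.gammaι (killFam hL n)).app M

variable {n M}

theorem kb_of_killed {U : (𝔛.X 0).Opens} (s : Sec hL.1 (killed hL n M) U) : KB hL M n (secMap (killedι hL n M) U s) :=
  killedBy_of_cover hL s.2 fun _ _ ⟨_, hg⟩ => hg

theorem exists_killed {U : (𝔛.X 0).Opens} (s : Sec hL.1 M U) (hs : KB hL M n s) :
    ∃ t : Sec hL.1 (killed hL n M) U, secMap (killedι hL n M) U t = s :=
  ⟨⟨s, FTors.IsTorsSect.of_killedBy (I := killFam hL n) (n := 0) hs⟩, rfl⟩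

theorem kb_killed {U : (𝔛.X 0).Opens} (s : Sec hL.1 (killed hL n M) U) : KB hL (killed hL n M) n s :=
  fun W g a ha => Subtype.ext (kb_of_killed hL s g a ha)

section Action

variable {M' : FSch.ModF 𝔛 hL.1} (hK : ∀ (U : (𝔛.X 0).Opens) (s : Sec hL.1 M' U), KB hL M' n s)

/-- The result of multiplying by a section of the structure sheaf of the level. -/
def IsAct (V : (𝔛.X n).Opens) (r : Γ(𝔛.X n, V)) (x y : Sec hL.1 M' (pv n V)) : Prop :=
  ∀ (W : (𝔛.X 0).Opens) (l : W ≤ pv n V) (a : OSec hL.1 W),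
    oP hL.1 n W a = (𝔛.X n).presheaf.map (homOfLE ((lvU_mono hL.1 n l).trans (lvU_pv (hL := hL) n V).le)).op r →
      rM hL M' l y = a • rM hL M' l x

include hK in
theorem smul_eq_of_oP {W : (𝔛.X 0).Opens} {a b : OSec hL.1 W} (h : oP hL.1 n W a = oP hL.1 n W b)
    (z : Sec hL.1 M' W) : a • z = b • z := by
  have h1 := hK W z (𝟙 W) (a - b) (show oP hL.1 n W (a - b) = 0 by rw [map_sub, h, sub_self])
  rw [FTors.res_id] at h1
  exact sub_eq_zero.1 ((sub_smul a b z).symm.trans h1)

variable {V : (𝔛.X n).Opens} {r : Γ(𝔛.X n, V)}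

/-- The sieve of opens over which a function of the level lifts. -/
def liftsTo (r : Γ(𝔛.X n, V)) : Sieve (pv n V : (𝔛.X 0).Opens) where
  arrows W g := ∃ a : OSec hL.1 W, oP hL.1 n W a =
    (𝔛.X n).presheaf.map (homOfLE ((lvU_mono hL.1 n (leOfHom g)).trans (lvU_pv (hL := hL) n V).le)).op r
  downward_closed {W W'} g h k := by
    obtain ⟨a, ha⟩ := h
    refine ⟨rr (𝔛.Osh hL.1) k.op a, ?_⟩
    rw [oP_res, ha, ← CommRingCat.comp_apply, ← Functor.map_comp]
    rfl

theorem liftsTo_mem (r : Γ(𝔛.X n, V)) : liftsTo hL r ∈ Opens.grothendieckTopology (𝔛.X 0) (pv n V) := fun y hy => by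
  obtain ⟨A, hA, hyA, hle⟩ := exists_isAffineOpen_mem_and_subset (x := y) (U := pv n V) hy
  exact ⟨A, homOfLE hle, surjective_oP hL hA n _, hyA⟩

include hK in
theorem isAct_unique {x y y' : Sec hL.1 M' (pv n V)} (h : IsAct hL V r x y) (h' : IsAct hL V r x y') : y = y' :=
  separated_forg M' (X := op (pv n V)) (liftsTo hL r) (liftsTo_mem hL r) _ _ fun W g hg => by
    obtain ⟨a, ha⟩ := hg
    exact (h W (leOfHom g) a ha).trans (h' W (leOfHom g) a ha).symm

include hK in
theorem exists_isAct (x : Sec hL.1 M' (pv n V)) : ∃ y, IsAct hL V r x y := by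
  let J := Opens.grothendieckTopology (𝔛.X 0)
  choose a ha using fun (W : (𝔛.X 0).Opens) (g : W ⟶ pv n V) (hg : liftsTo hL r g) => hg
  let fam : Presieve.FamilyOfElements (M'.val.presheaf ⋙ forget _) (liftsTo hL r).arrows :=
    fun W g hg => (a W g hg • rsF hL M' g x : Sec hL.1 M' W)
  have hfam : fam.Compatible := by
    intro Y₁ Y₂ Z g₁ g₂ f₁ f₂ h₁ h₂ _
    show rsF hL M' g₁ (a Y₁ f₁ h₁ • rsF hL M' f₁ x) = rsF hL M' g₂ (a Y₂ f₂ h₂ • rsF hL M' f₂ x)
    rw [rsF_smul, rsF_smul, rsF_rsF hL f₁ g₁ (g₁ ≫ f₁), rsF_rsF hL f₂ g₂ (g₁ ≫ f₁)]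
    refine smul_eq_of_oP hL hK ?_ _
    refine (oP_res hL.1 n g₁ _).trans (Eq.trans ?_ (oP_res hL.1 n g₂ _).symm)
    rw [ha Y₁ f₁ h₁, ha Y₂ f₂ h₂, ← CommRingCat.comp_apply, ← Functor.map_comp, ← CommRingCat.comp_apply,
      ← Functor.map_comp]
    rfl
  have hsh : Presieve.IsSheafFor (M'.val.presheaf ⋙ forget _) (liftsTo hL r).arrows :=
    ((isSheaf_iff_isSheaf_of_type J _).1
      ((Presheaf.isSheaf_iff_isSheaf_forget J M'.val.presheaf (forget Ab.{u})).1 M'.isSheaf)) _ (liftsTo_mem hL r)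
  refine ⟨hsh.amalgamate fam hfam, fun W l b hb => ?_⟩
  refine (hsh.valid_glue hfam (homOfLE l) ⟨b, hb⟩).trans ?_
  exact smul_eq_of_oP hL hK ((ha _ _ _).trans hb.symm) _

end Action

section Module

variable {M' : FSch.ModF 𝔛 hL.1} (hK : ∀ (U : (𝔛.X 0).Opens) (s : Sec hL.1 M' U), KB hL M' n s)

/-- The action of the sections of the level. -/
noncomputable def act (V : (𝔛.X n).Opens) (r : Γ(𝔛.X n, V)) (x : Sec hL.1 M' (pv n V)) : Sec hL.1 M' (pv n V) :=
  (exists_isAct hL hK (r := r) x).choose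

theorem isAct_act (V : (𝔛.X n).Opens) (r : Γ(𝔛.X n, V)) (x : Sec hL.1 M' (pv n V)) :
    IsAct hL V r x (act hL hK V r x) :=
  (exists_isAct hL hK (r := r) x).choose_spec

theorem act_eq {V : (𝔛.X n).Opens} {r : Γ(𝔛.X n, V)} {x y : Sec hL.1 M' (pv n V)}
    (h : ∀ (A : (𝔛.X 0).Opens) (l : A ≤ pv n V) (a : OSec hL.1 A), IsAffineOpen A →
      oP hL.1 n A a = (𝔛.X n).presheaf.map (homOfLE ((lvU_mono hL.1 n l).trans (lvU_pv (hL := hL) n V).le)).op r →
        rM hL M' l y = a • rM hL M' l x) : act hL hK V r x = y := by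
  refine sub_eq_zero.1 (eq_zero_of_affine hL (M := M') _ fun A l hA => ?_)
  obtain ⟨a, ha⟩ := surjective_oP hL hA n
    ((𝔛.X n).presheaf.map (homOfLE ((lvU_mono hL.1 n l).trans (lvU_pv (hL := hL) n V).le)).op r)
  refine (map_sub (M'.val.map (homOfLE l).op).hom _ _).trans (sub_eq_zero.2 ?_)
  exact (isAct_act hL hK V r x A l a ha).trans (h A l a hA ha).symm

/-- The module structure over the sections of the level. -/
@[instance_reducible]
noncomputable def levelModule (V : (𝔛.X n).Opens) : Module Γ(𝔛.X n, V) (Sec hL.1 M' (pv n V)) where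
  smul r x := act hL hK V r x
  one_smul x := act_eq hL hK fun A l a hA ha => by
    rw [map_one] at ha
    exact ((one_smul _ _).symm.trans (smul_eq_of_oP hL hK ((map_one _).trans ha.symm) _))
  mul_smul r r' x := act_eq hL hK fun A l a hA ha => by
    obtain ⟨b, hb⟩ := surjective_oP hL hA n
      ((𝔛.X n).presheaf.map (homOfLE ((lvU_mono hL.1 n l).trans (lvU_pv (hL := hL) n V).le)).op r)
    obtain ⟨b', hb'⟩ := surjective_oP hL hA n
      ((𝔛.X n).presheaf.map (homOfLE ((lvU_mono hL.1 n l).trans (lvU_pv (hL := hL) n V).le)).op r')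
    refine (isAct_act hL hK V r _ A l b hb).trans ?_
    refine (congrArg (b • ·) (isAct_act hL hK V r' x A l b' hb')).trans ((smul_smul _ _ _).trans ?_)
    refine smul_eq_of_oP hL hK ?_ _
    rw [map_mul, hb, hb', ha, map_mul]
  smul_zero r := act_eq hL hK fun A l a _ _ => by
    show rs _ _ 0 = a • rs _ _ 0
    rw [rs_zero, smul_zero]
  smul_add r x y := act_eq hL hK fun A l a _ ha => by
    show rs _ _ (act hL hK V r x + act hL hK V r y) = a • rs _ _ (x + y)
    rw [rs_add, rs_add, smul_add]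
    exact congrArg₂ (· + ·) (isAct_act hL hK V r x A l a ha) (isAct_act hL hK V r y A l a ha)
  add_smul r r' x := act_eq hL hK fun A l a hA ha => by
    obtain ⟨b, hb⟩ := surjective_oP hL hA n
      ((𝔛.X n).presheaf.map (homOfLE ((lvU_mono hL.1 n l).trans (lvU_pv (hL := hL) n V).le)).op r)
    obtain ⟨b', hb'⟩ := surjective_oP hL hA n
      ((𝔛.X n).presheaf.map (homOfLE ((lvU_mono hL.1 n l).trans (lvU_pv (hL := hL) n V).le)).op r')
    show rs _ _ (act hL hK V r x + act hL hK V r' x) = _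
    rw [rs_add]
    refine (congrArg₂ (· + ·) (isAct_act hL hK V r x A l b hb) (isAct_act hL hK V r' x A l b' hb')).trans ?_
    rw [← add_smul]
    refine smul_eq_of_oP hL hK ?_ _
    rw [map_add, hb, hb', ha, map_add]
  zero_smul x := act_eq hL hK fun A l a _ ha => by
    rw [map_zero] at ha
    exact (rs_zero _ _).trans ((zero_smul _ _).symm.trans (smul_eq_of_oP hL hK ((map_zero _).trans ha.symm) _))

/-- The underlying presheaf of the module on the level. -/
noncomputable def levelPre (n : ℕ) (M' : FSch.ModF 𝔛 hL.1) : (𝔛.X n).Opensᵒᵖ ⥤ Ab.{u} :=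
  (Opens.map (𝔛.toX n).base).op ⋙ M'.val.presheaf

noncomputable instance : ∀ V : (𝔛.X n).Opensᵒᵖ, AddCommGroup ((levelPre hL n M').obj V) := fun _ => inferInstance

/-- The module on the level. -/
noncomputable def levelMod : (𝔛.X n).Modules :=
  letI : ∀ V, Module ((𝔛.X n).ringCatSheaf.obj.obj V) ((levelPre hL n M').obj V) := fun V =>
    levelModule hL hK V.unop
  { val := PresheafOfModules.ofPresheaf (levelPre hL n M') fun V V' f r m => by
      symm
      refine act_eq hL hK fun A l a _ ha => ?_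
      let g : V'.unop ≤ V.unop := leOfHom f.unop
      have hl : A ≤ pv n V.unop := l.trans ((Opens.map (𝔛.toX n).base).monotone g)
      show rM hL M' l (rsF hL M' ((Opens.map (𝔛.toX n).base).map f.unop) (act hL hK V.unop r m)) =
        a • rM hL M' l (rsF hL M' ((Opens.map (𝔛.toX n).base).map f.unop) m)
      rw [rM, rM, rsF_rsF hL _ _ (homOfLE hl), rsF_rsF hL _ _ (homOfLE hl)]
      refine isAct_act hL hK V.unop r m A hl a (ha.trans ?_)
      exact (congr($((𝔛.X n).presheaf.map_comp f _) r)).symm.trans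
        (congrArg (fun z => (𝔛.X n).presheaf.map z r) (Subsingleton.elim _ _))
    isSheaf := ((Opens.map (𝔛.toX n).base).sheafPushforwardContinuous Ab.{u}
      (Opens.grothendieckTopology _) (Opens.grothendieckTopology _)).obj ⟨M'.val.presheaf, M'.isSheaf⟩ |>.property }

theorem levelMod_smul (V : (𝔛.X n).Opens) (r : Γ(𝔛.X n, V)) (x : Γ(levelMod hL hK, V)) :
    ((r • x : Γ(levelMod hL hK, V)) : Sec hL.1 M' (pv n V)) = act hL hK V r x := rfl

theorem le_pv_lvU (U : (𝔛.X 0).Opens) : U ≤ pv n (𝔛.lvU hL.1 n U) := (lvU_toX hL n U).ge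

/-- The comparison of the direct image with the module. -/
noncomputable def levelCmp : (FSch.levelMor 𝔛 hL.1 n).push.obj (levelMod hL hK) ⟶ M' :=
  ⟨PresheafOfModules.homMk
    { app := fun U => AddCommGrpCat.ofHom
        { toFun := fun x => rM hL M' (le_pv_lvU hL U.unop) x
          map_zero' := rs_zero _ _
          map_add' := fun x y => rs_add ((forg (𝔛.Osh hL.1)).obj M') (homOfLE (le_pv_lvU hL U.unop)).op x y }
      naturality := fun U U' i => by
        ext x
        exact (rs_rs _ _ _ _).trans ((congrArg (fun q : op (pv n (𝔛.lvU hL.1 n U.unop)) ⟶ U' => rs ((forg (𝔛.Osh hL.1)).obj M') q (x : Sec hL.1 M' (pv n (𝔛.lvU hL.1 n U.unop)))) (Subsingleton.elim _ _)).trans (rs_rs _ _ _ _).symm) }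
    fun U a x => isAct_act hL hK (𝔛.lvU hL.1 n U.unop) (oP hL.1 n U.unop a) x U.unop (le_pv_lvU hL U.unop) a
      (congr($((𝔛.X n).presheaf.map_id _) _)).symm⟩

theorem bijective_levelCmp (U : (𝔛.X 0).Opens) : Function.Bijective (secMap (levelCmp hL hK) U) := by
  have h : ∀ {A B : (𝔛.X 0).Opens} (l : A ≤ B), B ≤ A → Function.Bijective (rM hL M' l) := fun {A B} l l' => by
    obtain rfl : A = B := le_antisymm l l'
    have e : ∀ x : Sec hL.1 M' A, rM hL M' l x = x := fun x =>
      (congrArg (fun q => rs _ q x) (Subsingleton.elim _ _)).trans (rs_id _ x)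
    exact ⟨fun x y hxy => (e x).symm.trans (hxy.trans (e y)), fun x => ⟨x, e x⟩⟩
  exact ⟨fun x y e => (h (le_pv_lvU hL U) (lvU_toX hL n U).le).1 e, fun y => (h (le_pv_lvU hL U) (lvU_toX hL n U).le).2 y⟩

end Module

end Groth.Agent.H13FTors
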