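import Groth.Agent.H13FTors.Loc
import Groth.Agent.H13FTors.Level
import Groth.Agent.H11Tilde.QCohCrit
import Groth.Agent.S4342

/-!
# Annihilated sections of quasi-coherent modules lie in coherent submodules
-/

set_option autoImplicit false
set_option linter.style.haveILetI false
set_option linter.unusedSectionVars false
set_option backward.isDefEq.respectTransparency false

universe u

open CategoryTheory CategoryTheory.Limits AlgebraicGeometry TopologicalSpace Opposite

namespace Groth.Agent.H13FTors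

open H15Site.ModTensor H15Site.ModRel H15Site.LocGen H15Site.LocPres H24FMod

attribute [local instance 10000] H15Site.SiteInst.hasSheafifySite H15Site.SiteInst.hasWeakSheafifySite

variable {𝔛 : FSch.Sys.{u}} (hL : 𝔛.IsLocNoethFormal) {n : ℕ}

/-- The direct image of a coherent module on a level is coherent. -/
theorem isCohF_push (G : (𝔛.X n).Modules) (hG : Coh.IsCoh G) :
    FSch.IsCohF 𝔛 hL.1 ((FSch.levelMor 𝔛 hL.1 n).push.obj G) := by
  classical
  let F := (FSch.levelMor 𝔛 hL.1 n).push.obj G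
  refine isFinitePresentation_of_lh (lh_of_coversTop (X := fun W : (𝔛.X 0).affineOpens => W.1) ?_ FP.res
    fun A => ?_)
  · exact (Opens.coversTop_iff _ _).2 (iSup_affineOpens_eq_top _)
  obtain ⟨U, hU⟩ := A
  show FP F U
  haveI := hL.2.2
  have hV := isAffineOpen_lvU hL hU n
  haveI := H24GE.isNoetherianRing_sections hV
  haveI := H24GE.finite_sections' hG hV
  obtain ⟨N, s, hs⟩ := Module.Finite.exists_fin (R := Γ(𝔛.X n, 𝔛.lvU hL.1 n U)) (M := Γ(G, 𝔛.lvU hL.1 n U))
  let x : ULift.{u} (Fin N) → Sec hL.1 F U := fun i => s i.down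
  let x' : ULift.{u} (Fin N) → Γ(G, 𝔛.lvU hL.1 n U) := fun i => s i.down
  let p := Fintype.linearCombination Γ(𝔛.X n, 𝔛.lvU hL.1 n U) x'
  obtain ⟨M, q, hq⟩ := Submodule.fg_iff_exists_fin_generating_family.1 (IsNoetherian.noetherian (LinearMap.ker p))
  choose q' hq' using fun (m : Fin M) (i : ULift.{u} (Fin N)) => surjective_oP hL hU n (q m i)
  obtain ⟨m₀, g, hg⟩ := Submodule.fg_iff_exists_fin_generating_family.1 (kI_fg hL hU n)
  have hgI : ∀ j, oP hL.1 n U (g j) = 0 := fun j =>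
    RingHom.mem_ker.1 (show g j ∈ kI hL n U from hg ▸ Submodule.subset_span ⟨j, rfl⟩)
  let r : ULift.{u} (Fin M) ⊕ (ULift.{u} (Fin m₀) × ULift.{u} (Fin N)) → ULift.{u} (Fin N) → OSec hL.1 U :=
    Sum.elim (fun m => q' m.down) fun jk i => if i = jk.2 then g jk.1.down else 0
  have hgenA : ∀ y : Γ(G, 𝔛.lvU hL.1 n U), ∃ c : ULift.{u} (Fin N) → Γ(𝔛.X n, 𝔛.lvU hL.1 n U), y = ∑ i, c i • x' i :=
    fun y => by
      have hy : y ∈ Submodule.span Γ(𝔛.X n, 𝔛.lvU hL.1 n U) (Set.range x') := by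
        rw [show Set.range x' = Set.range s from EquivLike.range_comp s Equiv.ulift, hs]
        trivial
      obtain ⟨c, hc⟩ := (Submodule.mem_span_range_iff_exists_fun _).1 hy
      exact ⟨c, hc.symm⟩
  have hrelA : ∀ c : ULift.{u} (Fin N) → Γ(𝔛.X n, 𝔛.lvU hL.1 n U), ∑ i, c i • x' i = 0 →
      ∃ d : ULift.{u} (Fin M) → Γ(𝔛.X n, 𝔛.lvU hL.1 n U), ∀ i, c i = ∑ k, d k * q k.down i := fun c hc => by
    have h1 : c ∈ Submodule.span _ (Set.range q) := hq ▸ (LinearMap.mem_ker.2 hc : c ∈ LinearMap.ker p)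
    obtain ⟨d, hd⟩ := (Submodule.mem_span_range_iff_exists_fun _).1 h1
    refine ⟨fun k => d k.down, fun i => ?_⟩
    rw [← hd, Finset.sum_apply]
    exact (Equiv.ulift.sum_comp fun k => d k * q k i).symm
  have haff : ∀ (B : (𝔛.X 0).Opens) (l : B ⟶ U), IsAffineOpen B →
      (∀ y : Sec hL.1 F B, ∃ c : ULift.{u} (Fin N) → OSec hL.1 B, y = ∑ i, c i • rsF hL F l (x i)) ∧
      ∀ c : ULift.{u} (Fin N) → OSec hL.1 B, ∑ i, c i • rsF hL F l (x i) = 0 →
        ∃ d : (ULift.{u} (Fin M) ⊕ (ULift.{u} (Fin m₀) × ULift.{u} (Fin N))) → OSec hL.1 B,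
          ∀ i, c i = ∑ k, d k * rsO hL l (r k i) := by
    intro B l hB
    obtain ⟨h1, h2⟩ := restrict_gen_rel G hG.1 hV (isAffineOpen_lvU hL hB n) (lvU_mono hL.1 n (leOfHom l))
      x' (fun (k : ULift.{u} (Fin M)) i => q k.down i) hgenA hrelA
    refine ⟨fun y => ?_, fun c hc => ?_⟩
    · obtain ⟨c, hc⟩ := h1 y
      choose c' hc' using fun i => surjective_oP hL hB n (c i)
      exact ⟨c', hc.trans (Finset.sum_congr rfl fun i _ =>
        (congrArg (· • G.presheaf.map (homOfLE (lvU_mono hL.1 n (leOfHom l))).op (x' i)) (hc' i)).symm)⟩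
    · obtain ⟨d, hd⟩ := h2 (fun i => oP hL.1 n B (c i)) hc
      choose d' hd' using fun k => surjective_oP hL hB n (d k)
      have he : ∀ i, c i - ∑ k, d' k * rsO hL l (q' k.down i) ∈ (kI hL n U).map (rsO hL l) := fun i => by
        rw [map_kI hL hU hB l n, kI, RingHom.mem_ker, map_sub, map_sum, sub_eq_zero, hd i]
        refine Finset.sum_congr rfl fun k _ => ?_
        rw [map_mul, hd', oP_res hL.1 n l, hq']
      have he' : ∀ i, ∃ e : ULift.{u} (Fin m₀) → OSec hL.1 B,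
          c i - ∑ k, d' k * rsO hL l (q' k.down i) = ∑ j, e j * rsO hL l (g j.down) := fun i => by
        have hmap : (kI hL n U).map (rsO hL l) = Ideal.span (Set.range fun j => rsO hL l (g j)) :=
          (congrArg (Ideal.map (rsO hL l)) hg.symm).trans ((Ideal.map_span _ _).trans (congrArg Ideal.span
            (Set.range_comp (rsO hL l) g).symm))
        obtain ⟨e, he⟩ := (Submodule.mem_span_range_iff_exists_fun _).1 (hmap ▸ he i)
        exact ⟨fun j => e j.down, he.symm.trans (Equiv.ulift.sum_comp fun j => e j • rsO hL l (g j)).symm⟩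
      choose e he'' using he'
      refine ⟨Sum.elim d' fun jk => e jk.2 jk.1, fun i => ?_⟩
      rw [Fintype.sum_sum_type, Fintype.sum_prod_type]
      simp only [r, Sum.elim_inl, Sum.elim_inr, apply_ite (rsO hL l), map_zero, mul_ite, mul_zero,
        Finset.sum_ite_eq, Finset.mem_univ, if_true]
      rw [← he'' i, add_sub_cancel]
  refine ⟨_, _, inferInstance, inferInstance, x, r, fun V k t => ?_, fun m => ?_, fun V k c hc => ?_⟩
  · refine ⟨affSieve V, affSieve_mem V, fun W a ha => ?_⟩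
    obtain ⟨B, hB, h1, h2⟩ := ha
    obtain ⟨c, hc⟩ := (haff B (homOfLE (h2.trans (leOfHom k))) hB).1 (rs _ (homOfLE h2).op t)
    refine ⟨fun i => rr (𝔛.Osh hL.1) (homOfLE h1).op (c i), ?_⟩
    have h := congrArg (fun z => rs ((forg (𝔛.Osh hL.1)).obj F) (homOfLE h1).op z) hc
    simp only [rsF, rs_rs, rs_sum, rs_smul'] at h
    rw [show a.op = (homOfLE h2).op ≫ (homOfLE h1).op from Subsingleton.elim _ _]
    refine h.trans (Finset.sum_congr rfl fun i _ => ?_)
    exact congrArg (fun z => _ • rs _ z (x i)) (Subsingleton.elim _ _)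
  · show ∑ i, oP hL.1 n U (r m i) • x' i = 0
    rcases m with m | ⟨j, k⟩
    · simp only [r, Sum.elim_inl, hq']
      exact (Fintype.linearCombination_apply _ _ _).symm.trans
        (LinearMap.mem_ker.1 (hq ▸ Submodule.subset_span ⟨m.down, rfl⟩ : q m.down ∈ LinearMap.ker p))
    · refine Finset.sum_eq_zero fun i _ => ?_
      simp only [r, Sum.elim_inr, apply_ite (oP hL.1 n U), map_zero, hgI, ite_self, zero_smul]
  · refine ⟨affSieve V, affSieve_mem V, fun W a ha => ?_⟩
    obtain ⟨B, hB, h1, h2⟩ := ha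
    obtain ⟨d, hd⟩ := (haff B (homOfLE (h2.trans (leOfHom k))) hB).2
      (fun i => rr (𝔛.Osh hL.1) (homOfLE h2).op (c i)) (by
        have h := congrArg (fun z => rs ((forg (𝔛.Osh hL.1)).obj F) (homOfLE h2).op z) hc
        simp only [rs_rs, rs_sum, rs_smul', rs_zero] at h
        refine (Finset.sum_congr rfl fun i _ => ?_).trans h
        exact congrArg (fun z => _ • rs _ z (x i)) (Subsingleton.elim _ _))
    refine ⟨fun j => rr (𝔛.Osh hL.1) (homOfLE h1).op (d j), fun i => ?_⟩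
    have h := congrArg (fun z => rr (𝔛.Osh hL.1) (homOfLE h1).op z) (hd i)
    simp only [rr_rr, map_sum, map_mul] at h
    rw [show a.op = (homOfLE h2).op ≫ (homOfLE h1).op from Subsingleton.elim _ _]
    refine h.trans (Finset.sum_congr rfl fun j _ => ?_)
    exact congrArg (fun z => _ * rr (𝔛.Osh hL.1) z (r j i)) (Subsingleton.elim _ _)

variable {M : FSch.ModF 𝔛 hL.1} [SheafOfModules.IsQuasicoherent.{u} M]

theorem secMap_killedι_injective (U : (𝔛.X 0).Opens) : Function.Injective (secMap (killedι hL n M) U) :=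
  fun _ _ h => Subtype.ext h

theorem rM_killedι {A B : (𝔛.X 0).Opens} (l : B ≤ A) (x : Sec hL.1 (killed hL n M) A) :
    secMap (killedι hL n M) B (rM hL _ l x) = rM hL M l (secMap (killedι hL n M) A x) := rfl

/-- The module on the level of the annihilated sections is quasi-coherent. -/
theorem isQCoh_levelMod : Coh.IsQCoh (levelMod hL (M' := killed hL n M) fun _ s => kb_killed hL s) := by
  let hK : ∀ (U : (𝔛.X 0).Opens) (s : Sec hL.1 (killed hL n M) U), KB hL (killed hL n M) n s :=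
    fun _ s => kb_killed hL s
  let G := levelMod hL hK
  haveI := 𝔛.toX_isClosedImmersion hL.1 n
  have key : ∀ x : 𝔛.X n, ∃ V : (𝔛.X n).Opens, x ∈ V ∧ IsAffineOpen V ∧
      ∃ U : (𝔛.X 0).Opens, pv n V ≤ U ∧ H13FSchQCoh.IndOn hL U M := fun x => by
    obtain ⟨y, rfl⟩ := 𝔛.toX_surjective hL.1 n x
    obtain ⟨W, hyW, -, hW⟩ := H13FSchQCoh.exists_indOn hL M y (W := ⊤) trivial
    obtain ⟨U, hU, hyU, hUW⟩ := exists_isAffineOpen_mem_and_subset hyW
    refine ⟨𝔛.lvU hL.1 n U, ?_, isAffineOpen_lvU hL hU n, U, (lvU_toX hL n U).le, hW U hU hUW⟩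
    exact (lvU_toX hL n U).ge hyU
  choose V hxV hV U hVU hM using key
  have data : ∀ (x : 𝔛.X n) (r : Γ(𝔛.X n, V x)), ∃ (a : OSec hL.1 (pv n (V x))) (l : pv n ((𝔛.X n).basicOpen r) ⟶ pv n (V x)),
      IsAffineOpen (pv n ((𝔛.X n).basicOpen r)) ∧
      oP hL.1 n _ a = (𝔛.X n).presheaf.map (homOfLE (lvU_pv (hL := hL) n (V x)).le).op r ∧
      𝔛.lvU hL.1 n (pv n ((𝔛.X n).basicOpen r)) = (𝔛.X n).basicOpen (oP hL.1 n _ a) ∧ IsBC hL M l := fun x r => by
    have hA : IsAffineOpen (pv n (V x) : (𝔛.X 0).Opens) := (hV x).preimage (𝔛.toX n)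
    have hB : IsAffineOpen (pv n ((𝔛.X n).basicOpen r) : (𝔛.X 0).Opens) := ((hV x).basicOpen r).preimage (𝔛.toX n)
    obtain ⟨a, ha⟩ := surjective_oP hL hA n ((𝔛.X n).presheaf.map (homOfLE (lvU_pv (hL := hL) n (V x)).le).op r)
    refine ⟨a, homOfLE ((Opens.map (𝔛.toX n).base).monotone ((𝔛.X n).basicOpen_le r)), hB, ha, ?_,
      isBC_of_indOn hL (hM x) hA (hVU x) hB _⟩
    rw [ha, Scheme.basicOpen_res, lvU_pv (hL := hL), lvU_pv (hL := hL), inf_eq_right.2 ((𝔛.X n).basicOpen_le r)]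
  have hpow : ∀ (x : 𝔛.X n) (r : Γ(𝔛.X n, V x)) (a : OSec hL.1 (pv n (V x))) (N : ℕ) (W : (𝔛.X n).Opens) (l : W ≤ V x),
      oP hL.1 n _ a = (𝔛.X n).presheaf.map (homOfLE (lvU_pv (hL := hL) n (V x)).le).op r →
      ∀ y : Γ(G, W), secMap (killedι hL n M) (pv n W) ((𝔛.X n).presheaf.map (homOfLE l).op (r ^ N) • y) =
        rsO hL (homOfLE ((Opens.map (𝔛.toX n).base).monotone l)) a ^ N • secMap (killedι hL n M) (pv n W) y := by
    intro x r a N W l ha y
    have h1 := isAct_act hL hK W ((𝔛.X n).presheaf.map (homOfLE l).op (r ^ N)) y (pv n W) le_rfl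
      (rsO hL (homOfLE ((Opens.map (𝔛.toX n).base).monotone l)) a ^ N) (by
        rw [map_pow, map_pow, map_pow, oP_res, ha, ← CommRingCat.comp_apply, ← Functor.map_comp,
          ← CommRingCat.comp_apply, ← Functor.map_comp]
        rfl)
    have e : ∀ z : Sec hL.1 (killed hL n M) (pv n W), rM hL _ le_rfl z = z := fun z =>
      (congrArg (fun q => rs _ q z) (Subsingleton.elim _ _)).trans (rs_id _ z)
    rw [e, e] at h1
    rw [levelMod_smul hL hK, h1]
    exact ((killedι hL n M).val.app (op (pv n W))).hom.map_smul _ _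
  refine H11Tilde.isQuasicoherent_of_basicOpen_localization G V
    (eq_top_iff.2 fun x _ => Opens.mem_iSup.2 ⟨x, hxV x⟩) hV ?_ ?_
  · intro x r s hs
    obtain ⟨a, l, hB, ha, hBa, hbc⟩ := data x r
    let s' := secMap (killedι hL n M) (pv n (V x)) (s : Sec hL.1 (killed hL n M) (pv n (V x)))
    obtain ⟨N, hN⟩ := exists_pow_smul_eq_zero hL ((hV x).preimage (𝔛.toX n)) hB l a hBa hbc s' (kb_of_killed hL s) (by
      have h := congrArg (secMap (killedι hL n M) (pv n ((𝔛.X n).basicOpen r))) hs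
      rw [map_zero] at h
      exact Eq.trans rfl h)
    refine ⟨N, secMap_killedι_injective hL _ ?_⟩
    have h := hpow x r a N (V x) le_rfl ha s
    rw [show (homOfLE (le_refl (V x))).op = 𝟙 _ from rfl, (𝔛.X n).presheaf.map_id] at h
    rw [map_zero]
    refine h.trans ?_
    rw [show rsO hL (homOfLE ((Opens.map (𝔛.toX n).base).monotone (le_refl (V x)))) a = a from
      rr_id (O := 𝔛.Osh hL.1) a]
    exact hN
  · intro x r y
    obtain ⟨a, l, hB, ha, hBa, hbc⟩ := data x r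
    obtain ⟨N, t, ht, htl⟩ := exists_pow_smul_eq_res hL ((hV x).preimage (𝔛.toX n)) hB l a hBa hbc
      (secMap (killedι hL n M) _ (y : Sec hL.1 (killed hL n M) (pv n ((𝔛.X n).basicOpen r)))) (kb_of_killed hL y)
    obtain ⟨s, rfl⟩ := exists_killed hL t ht
    refine ⟨N, s, secMap_killedι_injective hL _ ?_⟩
    refine Eq.trans ?_ (hpow x r a N _ ((𝔛.X n).basicOpen_le r) ha y).symm
    exact htl

/-- An annihilated section of a quasi-coherent module lies in the image of a coherent module. -/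
theorem exists_coh_hit {A : (𝔛.X 0).Opens} (hA : IsAffineOpen A) (s : Sec hL.1 M A) (hs : KB hL M n s) :
    ∃ (F : FSch.ModF 𝔛 hL.1) (φ : F ⟶ M), FSch.IsCohF 𝔛 hL.1 F ∧ FTors.IsTorsF 𝔛 hL.1 F ∧
      ∃ y, secMap φ A y = s := by
  let hK : ∀ (U : (𝔛.X 0).Opens) (s : Sec hL.1 (killed hL n M) U), KB hL (killed hL n M) n s :=
    fun _ s => kb_killed hL s
  let G := levelMod hL hK
  haveI : Coh.IsQCoh G := isQCoh_levelMod hL
  haveI := hL.2.2
  obtain ⟨t, rfl⟩ := exists_killed hL s hs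
  obtain ⟨t', rfl⟩ := (bijective_levelCmp hL hK A).2 t
  have hX : ∀ x : 𝔛.X n, ∃ W : (𝔛.X n).Opens, x ∈ W ∧ TopologicalSpace.NoetherianSpace (W : Set (𝔛.X n)) :=
    fun x => by
      obtain ⟨W, hW, hxW, -⟩ := exists_isAffineOpen_mem_and_subset (x := x) (U := (⊤ : (𝔛.X n).Opens)) trivial
      haveI := H24GE.isNoetherianRing_sections hW
      exact ⟨W, hxW, AlgebraicGeometry.noetherianSpace_of_isAffineOpen W hW⟩
  obtain ⟨G', i, -, hq, hft, g, hg⟩ := S4342.result hX G ⟨_, isAffineOpen_lvU hL hA n⟩ t'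
  refine ⟨(FSch.levelMor 𝔛 hL.1 n).push.obj G',
    (FSch.levelMor 𝔛 hL.1 n).push.map i ≫ levelCmp hL hK ≫ killedι hL n M, isCohF_push hL G' ⟨hq, hft⟩, ?_, g, ?_⟩
  · intro W z
    refine FTors.IsTorsSect.of_killedBy (n := n) fun W' k a ha => ?_
    show oP hL.1 n W' a • (show Γ(G', 𝔛.lvU hL.1 n W') from FTors.res ((FSch.levelMor 𝔛 hL.1 n).push.obj G') k z) = 0
    rw [show oP hL.1 n W' a = 0 from ha, zero_smul]
  · show secMap (killedι hL n M) A (secMap (levelCmp hL hK) A (((FSch.levelMor 𝔛 hL.1 n).push.map i).val.app (op A) g)) = _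
    exact congrArg (fun z => secMap (killedι hL n M) A (secMap (levelCmp hL hK) A z)) hg

end Groth.Agent.H13FTors
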