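import Groth.Prelude.Def_FTors2
import Groth.Agent.H24FMod.Kernel
import Groth.Agent.H24FMod.FlatRes

/-!
# Torsion sections over affine opens of a formal scheme
-/

set_option autoImplicit false
set_option linter.style.haveILetI false
set_option linter.unusedSectionVars false
set_option backward.isDefEq.respectTransparency false

universe u

open CategoryTheory CategoryTheory.Limits AlgebraicGeometry TopologicalSpace Opposite

namespace Groth.Agent.H13FTors

open H15Site.ModTensor H15Site.ModRel H15Site.LocGen H24FMod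

attribute [local instance 10000] H15Site.SiteInst.hasSheafifySite H15Site.SiteInst.hasWeakSheafifySite

variable {𝔛 : FSch.Sys.{u}} (hL : 𝔛.IsLocNoethFormal) {M : FSch.ModF 𝔛 hL.1} {A B U : (𝔛.X 0).Opens}

/-- Restriction of sections, along an inclusion. -/
noncomputable abbrev rM (M : FSch.ModF 𝔛 hL.1) (l : B ≤ A) (x : Sec hL.1 M A) : Sec hL.1 M B :=
  rsF hL M (homOfLE l) x

/-- The kernel of the projection to a level. -/
noncomputable abbrev kI (n : ℕ) (A : (𝔛.X 0).Opens) : Ideal (OSec hL.1 A) := RingHom.ker (oP hL.1 n A)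

/-- Annihilated by an open ideal. -/
abbrev KB (M : FSch.ModF 𝔛 hL.1) (n : ℕ) {A : (𝔛.X 0).Opens} (s : Sec hL.1 M A) : Prop :=
  FTors.KilledBy (FTors.openIdealFam 𝔛 hL.1) M n s

theorem kI_fg (hA : IsAffineOpen A) (n : ℕ) : (kI hL n A).FG := by
  obtain ⟨J, hN, -, -⟩ := exists_adic hL hA
  haveI := hN
  exact IsNoetherian.noetherian _

theorem map_kI (hA : IsAffineOpen A) (hB : IsAffineOpen B) (l : B ⟶ A) (n : ℕ) :
    (kI hL n A).map (rsO hL l) = kI hL n B := by
  obtain ⟨J, -, -, hJ⟩ := exists_adic hL hA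
  obtain ⟨J', hN', hc', hJ'⟩ := exists_adic hL hB
  rw [kI, kI, hJ, hJ', Ideal.map_pow, map_ideal_def hL hA hB l hJ ⟨hN', hc'⟩ hJ']

theorem kI_mul (hA : IsAffineOpen A) (m n : ℕ) : kI hL (m + n + 1) A = kI hL m A * kI hL n A := by
  obtain ⟨J, -, -, hJ⟩ := exists_adic hL hA
  rw [kI, kI, kI, hJ, hJ, hJ, ← pow_add]
  congr 1
  omega

theorem rsF_smul (l : B ⟶ A) (a : OSec hL.1 A) (x : Sec hL.1 M A) :
    rsF hL M l (a • x) = rsO hL l a • rsF hL M l x :=
  rs_smul' _ l.op a x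

theorem rsF_rsF {W : (𝔛.X 0).Opens} (g : W ⟶ A) (k : B ⟶ W) (l : B ⟶ A) (x : Sec hL.1 M A) :
    rsF hL M k (rsF hL M g x) = rsF hL M l x :=
  (rs_rs _ _ _ _).trans (congrArg (fun q => rs ((forg (𝔛.Osh hL.1)).obj M) q x) (Subsingleton.elim _ _))

theorem eq_zero_of_affine {V : (𝔛.X 0).Opens} (x : Sec hL.1 M V)
    (h : ∀ (D : (𝔛.X 0).Opens) (l : D ≤ V), IsAffineOpen D → rM hL M l x = 0) : x = 0 := by
  refine separated_forg M (X := op V) (affSieve V) (affSieve_mem V) x 0 fun W g hg => ?_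
  obtain ⟨D, hD, h1, h2⟩ := hg
  rw [rs_zero, show g.op = (homOfLE h2).op ≫ (homOfLE h1).op from Subsingleton.elim _ _, ← rs_rs]
  exact (congrArg (rs _ (homOfLE h1).op) (h D h2 hD)).trans (rs_zero _ _)

/-- Being annihilated is checked on an affine open. -/
theorem killedBy_iff (hA : IsAffineOpen A) (n : ℕ) (s : Sec hL.1 M A) :
    KB hL M n s ↔ ∀ a ∈ kI hL n A, a • s = 0 := by
  refine ⟨fun h a ha => ?_, fun h W g a ha => ?_⟩
  · have e : FTors.res M (𝟙 A) s = s := FTors.res_id M s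
    exact e ▸ h (𝟙 A) a ha
  · refine eq_zero_of_affine hL (M := M) _ fun D l hD => ?_
    let g' : D ⟶ A := homOfLE (l.trans (leOfHom g))
    show rsF hL M (homOfLE l) (a • rsF hL M g s) = 0
    rw [rsF_smul hL, rsF_rsF hL g (homOfLE l) g']
    have hb : rsO hL (homOfLE l) a ∈ kI hL n D := by
      rw [kI, RingHom.mem_ker] at ⊢
      change oP hL.1 n W a = 0 at ha
      exact (oP_res hL.1 n (homOfLE l) a).trans ((congrArg _ ha).trans (map_zero _))
    rw [← map_kI hL hA hD g'] at hb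
    suffices H : (kI hL n A).map (rsO hL g') ≤
        LinearMap.ker (LinearMap.toSpanSingleton (OSec hL.1 D) (Sec hL.1 M D) (rsF hL M g' s)) from H hb
    rw [Ideal.map_le_iff_le_comap]
    intro c hc
    show rsO hL g' c • rsF hL M g' s = 0
    rw [← rsF_smul hL, h c hc]
    exact rs_zero _ _

/-- Being annihilated is local. -/
theorem killedBy_of_cover {V : (𝔛.X 0).Opens} {n : ℕ} {s : Sec hL.1 M V} {S : Sieve V}
    (hS : S ∈ Opens.grothendieckTopology (𝔛.X 0) V)
    (h : ∀ ⦃W : (𝔛.X 0).Opens⦄ (g : W ⟶ V), S g → KB hL M n (FTors.res M g s)) : KB hL M n s := by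
  intro W g a ha
  refine separated_forg M (X := op W) (S.pullback g) ((Opens.grothendieckTopology _).pullback_stable g hS) _ _
    fun Z k hk => ?_
  have h1 := h (k ≫ g) hk (𝟙 Z) (rsO hL k a) ((FTors.openIdealFam 𝔛 hL.1).map_mem n k ha)
  rw [FTors.res_id] at h1
  rw [rs_zero]
  refine (rsF_smul hL k a _).trans ?_
  refine (congrArg (rsO hL k a • ·) ?_).trans h1
  exact (rs_rs _ _ _ _).trans (congrArg (fun q => rs ((forg (𝔛.Osh hL.1)).obj M) q s) (Subsingleton.elim _ _))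

/-- A torsion section over a quasi-compact open is annihilated by one open ideal. -/
theorem exists_killedBy {V : (𝔛.X 0).Opens} (hV : IsCompact (V : Set (𝔛.X 0))) {s : Sec hL.1 M V}
    (hs : FTors.IsTorsSect (FTors.openIdealFam 𝔛 hL.1) M s) : ∃ n, KB hL M n s := by
  classical
  choose W g hg hx using fun x : {x // x ∈ V} => hs x.1 x.2
  choose n hn using hg
  obtain ⟨t, ht⟩ := hV.elim_finite_subcover (fun x => (W x : Set (𝔛.X 0))) (fun x => (W x).isOpen)
    fun x hx' => Set.mem_iUnion.2 ⟨⟨x, hx'⟩, hx ⟨x, hx'⟩⟩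
  refine ⟨t.sup n, killedBy_of_cover hL
    (S := ⟨fun Z _ => ∃ x ∈ t, Z ≤ W x, fun {Z Z'} _ ⟨x, hx, h⟩ k => ⟨x, hx, (leOfHom k).trans h⟩⟩) ?_ ?_⟩
  · intro y hy
    obtain ⟨x, hxt, hyx⟩ := Set.mem_iUnion₂.1 (ht hy)
    exact ⟨W x, g x, ⟨x, hxt, le_rfl⟩, hyx⟩
  · rintro Z k ⟨x, hxt, hle⟩
    have h1 := ((hn x).res (homOfLE hle)).mono (Finset.le_sup (f := n) hxt)
    rw [← FTors.res_comp] at h1
    rwa [Subsingleton.elim k (homOfLE hle ≫ g x)]

/-- Torsion modules are closed under extensions, submodules and quotients. -/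
theorem isTors_of_exact (S : ShortComplex (FSch.ModF 𝔛 hL.1)) (hS : S.Exact)
    (h₁ : FTors.IsTorsF 𝔛 hL.1 S.X₁) (h₃ : FTors.IsTorsF 𝔛 hL.1 S.X₃) : FTors.IsTorsF 𝔛 hL.1 S.X₂ := by
  haveI : Epi (kernel.lift S.g S.f S.zero) := S.exact_iff_epi_kernel_lift.1 hS
  intro V s
  refine FTors.IsTorsSect.of_cover (affSieve_mem V) fun W g hg => ?_
  obtain ⟨D, hD, h1, h2⟩ := hg
  rw [show g = homOfLE h1 ≫ homOfLE h2 from Subsingleton.elim _ _, FTors.res_comp]
  refine FTors.IsTorsSect.res _ ?_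
  set t : Sec hL.1 S.X₂ D := FTors.res S.X₂ (homOfLE h2) s
  obtain ⟨n, hn⟩ := exists_killedBy hL hD.isCompact (h₃ D ((S.g.val.app (op D)).hom t))
  have key : ∀ c ∈ kI hL n D, FTors.IsTorsSect (FTors.openIdealFam 𝔛 hL.1) S.X₂
      (U := D) (c • t : Sec hL.1 S.X₂ D) := fun c hc => by
    have h0 : (S.g.val.app (op D)).hom (c • t : Sec hL.1 S.X₂ D) = 0 :=
      ((S.g.val.app (op D)).hom.map_smul c t).trans ((killedBy_iff hL hD n _).1 hn c hc)
    obtain ⟨y, hy⟩ := exists_kerSec S.g (W := op D) (c • t : Sec hL.1 S.X₂ D) h0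
    obtain ⟨R, hR, hR'⟩ := (epi_iff_locSurj (kernel.lift S.g S.f S.zero)).1 inferInstance D y
    refine FTors.IsTorsSect.of_cover hR fun Z k hk => ?_
    obtain ⟨x, hx⟩ := hR' k hk
    have hx' : (S.f.val.app (op Z)).hom x = FTors.res S.X₂ k (c • t : Sec hL.1 S.X₂ D) := by
      refine Eq.trans ?_ ((congrArg ((kernel.ι S.g).val.app (op Z)).hom hx).trans
        ((FTors.res_hom (M := kernel S.g) (kernel.ι S.g) k y).symm.trans (congrArg (FTors.res S.X₂ k) hy)))
      exact (congrArg (fun q : S.X₁ ⟶ S.X₂ => (q.val.app (op Z)).hom x) (kernel.lift_ι S.g S.f S.zero)).symm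
    rw [← hx']
    exact (h₁ Z x).hom S.f
  choose! m hm using fun c hc => exists_killedBy hL hD.isCompact (key c hc)
  obtain ⟨G, hG⟩ := kI_fg hL hD n
  refine FTors.IsTorsSect.of_killedBy (n := G.sup m + n + 1) ((killedBy_iff hL hD _ t).2 ?_)
  intro a ha
  rw [kI_mul hL hD] at ha
  refine Submodule.mul_induction_on ha (fun p hp q hq => ?_) fun p q hp hq => by rw [add_smul, hp, hq, add_zero]
  have : q ∈ Submodule.span (OSec hL.1 D) (G : Set (OSec hL.1 D)) := (SetLike.ext_iff.1 hG q).2 hq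
  rw [mul_smul]
  clear hq
  induction this using Submodule.span_induction with
  | mem x hx =>
    exact (killedBy_iff hL hD _ _).1 ((hm x ((SetLike.ext_iff.1 hG x).1 (Submodule.subset_span hx))).mono (Finset.le_sup hx)) p hp
  | zero => rw [zero_smul, smul_zero]
  | add x y _ _ hx hy => rw [add_smul, smul_add, hx, hy, add_zero]
  | smul c x _ hx => rw [smul_assoc, smul_comm, hx, smul_zero]


theorem injective_app_of_mono {N : FSch.ModF 𝔛 hL.1} (f : N ⟶ M) [Mono f] (V : (𝔛.X 0).Opens) :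
    Function.Injective (f.val.app (op V)).hom := by
  refine (injective_iff_map_eq_zero _).2 fun x hx => ?_
  obtain ⟨y, rfl⟩ := exists_kerSec f (W := op V) x hx
  rw [kernel.ι_of_mono f]
  rfl

theorem isTors_of_isZero {N : FSch.ModF 𝔛 hL.1} (h : IsZero N) : FTors.IsTorsF 𝔛 hL.1 N := fun V s => by
  have e : s = 0 := congrArg (fun q : N ⟶ N => (q.val.app (op V)).hom s) (h.eq_of_src (𝟙 N) 0)
  rw [e]
  exact FTors.IsTorsSect.zero _ _ _

/-- The middle of a five-term exact sequence is torsion. -/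
theorem isTors_of_exact_five (S : ComposableArrows (FSch.ModF 𝔛 hL.1) 4) (hS : S.Exact)
    (h₁ : FTors.IsTorsF 𝔛 hL.1 (S.obj 1)) (h₃ : FTors.IsTorsF 𝔛 hL.1 (S.obj 3)) :
    FTors.IsTorsF 𝔛 hL.1 (S.obj 2) :=
  isTors_of_exact hL (S.sc hS.toIsComplex 1) (hS.exact 1) h₁ h₃

/-- A colimit of torsion modules is torsion. -/
theorem isTors_of_isColimit {J : Type*} [Category J] {D : J ⥤ FSch.ModF 𝔛 hL.1} {c : Cocone D}
    (hc : IsColimit c) (h : ∀ j, FTors.IsTorsF 𝔛 hL.1 (D.obj j)) : FTors.IsTorsF 𝔛 hL.1 c.pt := by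
  let γ := FTors.gammaι (FTors.openIdealFam 𝔛 hL.1)
  have hm : ∀ N : FSch.ModF 𝔛 hL.1, Mono (γ.app N) := fun N => by
    haveI := (SheafOfModules.fullyFaithfulForget (ModSite.ringSh (𝔛.Osh hL.1))).faithful
    refine (forg (𝔛.Osh hL.1)).mono_of_mono_map (f := γ.app N) ?_
    exact ⟨fun {Z} a b e => PresheafOfModules.hom_ext fun X => ModuleCat.hom_ext (LinearMap.ext fun z =>
      Subtype.ext (congrArg (fun k => (PresheafOfModules.Hom.app k X).hom z) e))⟩
  have he : ∀ j, IsIso (γ.app (D.obj j)) := fun j => by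
    haveI := hm (D.obj j)
    haveI : Epi (γ.app (D.obj j)) := (epi_iff_locSurj _).2 fun V t =>
      ⟨⊤, GrothendieckTopology.top_mem _ V, fun W k _ => ⟨⟨_, h j W _⟩, rfl⟩⟩
    exact isIso_of_mono_of_epi _
  let c' : Cocone D :=
    { pt := (FTors.gammaT 𝔛 hL.1).obj c.pt
      ι :=
        { app := fun j => inv (γ.app (D.obj j)) ≫ (FTors.gammaT 𝔛 hL.1).map (c.ι.app j)
          naturality := fun i j k => by
            have := hm c.pt
            refine (cancel_mono (γ.app c.pt)).1 ?_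
            simp only [Functor.const_obj_obj, Functor.const_obj_map, Category.comp_id, Category.assoc]
            rw [γ.naturality, γ.naturality]
            simp only [Functor.id_obj, Functor.id_map, IsIso.inv_hom_id_assoc]
            exact c.w k } }
  have e : hc.desc c' ≫ γ.app c.pt = 𝟙 _ := hc.hom_ext fun j => by
    rw [hc.fac_assoc, Category.assoc, γ.naturality, IsIso.inv_hom_id_assoc]
    exact (Category.comp_id _).symm
  intro V s
  rw [show s = ((hc.desc c').val.app (op V) s).1 from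
    (congrArg (fun q : c.pt ⟶ c.pt => (q.val.app (op V)).hom s) e).symm]
  exact ((hc.desc c').val.app (op V) s).2

end Groth.Agent.H13FTors
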