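import Groth.Agent.H13FTors.BC
import Mathlib.RingTheory.Flat.Basic

/-!
# Annihilated sections over basic opens
-/

set_option autoImplicit false
set_option linter.style.haveILetI false
set_option linter.unusedSectionVars false
set_option backward.isDefEq.respectTransparency false

universe u

open CategoryTheory CategoryTheory.Limits AlgebraicGeometry TopologicalSpace Opposite TensorProduct

namespace Groth.Agent.H13FTors

open H15Site.ModTensor H15Site.ModRel H24FMod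

attribute [local instance 10000] H15Site.SiteInst.hasSheafifySite H15Site.SiteInst.hasWeakSheafifySite

variable {𝔛 : FSch.Sys.{u}} (hL : 𝔛.IsLocNoethFormal) {M : FSch.ModF 𝔛 hL.1} {A B : (𝔛.X 0).Opens} {n : ℕ}

/-- Sections of a level over a basic open are fractions. -/
theorem level_frac (hA : IsAffineOpen A) (l : B ⟶ A) (a : OSec hL.1 A)
    (hBa : 𝔛.lvU hL.1 n B = (𝔛.X n).basicOpen (oP hL.1 n A a)) :
    (∀ b : OSec hL.1 B, ∃ (N : ℕ) (a' : OSec hL.1 A), rsO hL l a ^ N * b - rsO hL l a' ∈ kI hL n B) ∧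
      ∀ a' : OSec hL.1 A, rsO hL l a' ∈ kI hL n B → ∃ N : ℕ, a ^ N * a' ∈ kI hL n A := by
  let j : 𝔛.lvU hL.1 n B ⟶ 𝔛.lvU hL.1 n A := homOfLE (lvU_mono hL.1 n (leOfHom l))
  haveI := (isAffineOpen_lvU hL hA n).isLocalization_of_eq_basicOpen (oP hL.1 n A a) j hBa
  letI := ((𝔛.X n).presheaf.map j.op).hom.toAlgebra
  have hres : ∀ c, oP hL.1 n B (rsO hL l c) = algebraMap Γ(𝔛.X n, 𝔛.lvU hL.1 n A) _ (oP hL.1 n A c) :=
    fun c => oP_res hL.1 n l c
  refine ⟨fun b => ?_, fun a' ha' => ?_⟩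
  · obtain ⟨N, r, hr⟩ := IsLocalization.Away.surj (oP hL.1 n A a) (oP hL.1 n B b)
    obtain ⟨a', rfl⟩ := surjective_oP hL hA n r
    refine ⟨N, a', ?_⟩
    rw [kI, RingHom.mem_ker, map_sub, map_mul, map_pow, hres, hres, ← hr, mul_comm, sub_self]
  · rw [kI, RingHom.mem_ker, hres] at ha'
    obtain ⟨N, hN⟩ := IsLocalization.Away.exists_of_eq (x := oP hL.1 n A a) (S := Γ(𝔛.X n, 𝔛.lvU hL.1 n B))
      (a := oP hL.1 n A a') (b := 0) (ha'.trans (map_zero _).symm)
    refine ⟨N, ?_⟩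
    rw [kI, RingHom.mem_ker, map_mul, map_pow, hN, mul_zero]

theorem bcMap_smul (l : B ⟶ A) (c : OSec hL.1 A) (x : Sec hL.1 M A) (b : OSec hL.1 B) :
    letI := (rsO hL l).toAlgebra
    bcMap hL M l (b ⊗ₜ (c • x)) = rsO hL l c • bcMap hL M l (b ⊗ₜ x) := by
  letI := (rsO hL l).toAlgebra
  rw [bcMap_tmul, bcMap_tmul]
  refine (congrArg (b • ·) (rsF_smul hL l c x)).trans ?_
  exact smul_comm _ _ _

/-- An annihilated section vanishing on a basic open is annihilated by a power. -/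
theorem exists_pow_smul_eq_zero (hA : IsAffineOpen A) (hB : IsAffineOpen B) (l : B ⟶ A) (a : OSec hL.1 A)
    (hBa : 𝔛.lvU hL.1 n B = (𝔛.X n).basicOpen (oP hL.1 n A a)) (hbc : IsBC hL M l)
    (s : Sec hL.1 M A) (hs : KB hL M n s) (h0 : rsF hL M l s = 0) : ∃ N : ℕ, a ^ N • s = 0 := by
  letI := (rsO hL l).toAlgebra
  haveI : Module.Flat (OSec hL.1 A) (OSec hL.1 B) := flat_rsO hL hA hB l
  let I : Ideal (OSec hL.1 A) := LinearMap.ker (LinearMap.toSpanSingleton (OSec hL.1 A) (Sec hL.1 M A) s)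
  let ψ : (OSec hL.1 A ⧸ I) →ₗ[OSec hL.1 A] Sec hL.1 M A :=
    Submodule.liftQ I (LinearMap.toSpanSingleton (OSec hL.1 A) (Sec hL.1 M A) s) le_rfl
  have hψ : Function.Injective ψ := LinearMap.ker_eq_bot.1 (Submodule.ker_liftQ_eq_bot' _ _ rfl)
  have h1 : (1 : OSec hL.1 B) ⊗ₜ[OSec hL.1 A] (Submodule.Quotient.mk (p := I) 1) = 0 := by
    refine Module.Flat.lTensor_preserves_injective_linearMap ψ hψ (hbc.1 ?_)
    rw [map_zero, map_zero, LinearMap.lTensor_tmul, bcMap_tmul, one_smul, Submodule.liftQ_apply,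
      LinearMap.toSpanSingleton_apply, one_smul, h0]
  let J : Ideal (OSec hL.1 B) := I.map (rsO hL l)
  let φ : (OSec hL.1 A ⧸ I) →ₗ[OSec hL.1 A] OSec hL.1 B ⧸ J :=
    Submodule.liftQ I ((Ideal.Quotient.mkₐ (OSec hL.1 A) J).toLinearMap ∘ₗ Algebra.linearMap _ _)
      fun c hc => Ideal.Quotient.eq_zero_iff_mem.2 (Ideal.mem_map_of_mem _ hc)
  have h2 := congrArg (LinearMap.mul' (OSec hL.1 A) (OSec hL.1 B ⧸ J) ∘ₗ
    TensorProduct.map (Ideal.Quotient.mkₐ (OSec hL.1 A) J).toLinearMap φ) h1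
  have hone : (1 : OSec hL.1 B) ∈ J := by
    refine Ideal.Quotient.eq_zero_iff_mem.1 ?_
    rw [map_zero, LinearMap.comp_apply, TensorProduct.map_tmul, LinearMap.mul'_apply] at h2
    refine Eq.trans ?_ h2
    simp only [φ, Submodule.liftQ_apply]; simp
  obtain ⟨hsurj, hinj⟩ := level_frac hL hA l a hBa
  have hspan : ∀ b ∈ J, ∃ (N : ℕ) (a' : OSec hL.1 A), a' ∈ I ∧ rsO hL l a ^ N * b - rsO hL l a' ∈ kI hL n B := by
    intro b hb
    refine Submodule.span_induction (fun x hx => ?_) ⟨0, 0, I.zero_mem, by simp⟩ (fun x y _ _ hx hy => ?_)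
      (fun c x _ hx => ?_) hb
    · obtain ⟨a', ha', rfl⟩ := hx
      exact ⟨0, a', ha', by simp⟩
    · obtain ⟨N, p, hp, hp'⟩ := hx
      obtain ⟨N', q, hq, hq'⟩ := hy
      refine ⟨N + N', a ^ N' * p + a ^ N * q, I.add_mem (I.mul_mem_left _ hp) (I.mul_mem_left _ hq), ?_⟩
      have : rsO hL l a ^ (N + N') * (x + y) - rsO hL l (a ^ N' * p + a ^ N * q) =
          rsO hL l a ^ N' * (rsO hL l a ^ N * x - rsO hL l p) + rsO hL l a ^ N * (rsO hL l a ^ N' * y - rsO hL l q) := by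
        rw [map_add, map_mul, map_mul, map_pow, map_pow]
        ring
      rw [this]
      exact add_mem (Ideal.mul_mem_left _ _ hp') (Ideal.mul_mem_left _ _ hq')
    · obtain ⟨N, p, hp, hp'⟩ := hx
      obtain ⟨N', c', hc'⟩ := hsurj c
      refine ⟨N' + N, c' * p, I.mul_mem_left _ hp, ?_⟩
      have : rsO hL l a ^ (N' + N) * (c • x) - rsO hL l (c' * p) =
          rsO hL l c' * (rsO hL l a ^ N * x - rsO hL l p) + (rsO hL l a ^ N' * c - rsO hL l c') * (rsO hL l a ^ N * x) := by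
        rw [map_mul, smul_eq_mul]
        ring
      rw [this]
      exact add_mem (Ideal.mul_mem_left _ _ hp') (Ideal.mul_mem_right _ _ hc')
  obtain ⟨N, a', ha', h3⟩ := hspan 1 hone
  rw [mul_one, ← map_pow, ← map_sub] at h3
  obtain ⟨N', hN'⟩ := hinj _ h3
  refine ⟨N' + N, ?_⟩
  have h4 : (a ^ N' * (a ^ N - a')) • s = 0 := (killedBy_iff hL hA n s).1 hs _ hN'
  have h5 : a' • s = 0 := ha'
  rwa [mul_sub, sub_smul, mul_smul (a ^ N') a', h5, smul_zero, sub_zero, ← pow_add] at h4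

/-- An annihilated section on a basic open extends after a power. -/
theorem exists_pow_smul_eq_res (hA : IsAffineOpen A) (hB : IsAffineOpen B) (l : B ⟶ A) (a : OSec hL.1 A)
    (hBa : 𝔛.lvU hL.1 n B = (𝔛.X n).basicOpen (oP hL.1 n A a)) (hbc : IsBC hL M l)
    (y : Sec hL.1 M B) (hy : KB hL M n y) :
    ∃ (N : ℕ) (s : Sec hL.1 M A), KB hL M n s ∧ rsF hL M l s = rsO hL l a ^ N • y := by
  letI := (rsO hL l).toAlgebra
  haveI : Module.Flat (OSec hL.1 A) (OSec hL.1 B) := flat_rsO hL hA hB l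
  obtain ⟨m, g, hg⟩ := Submodule.fg_iff_exists_fin_generating_family.1 (kI_fg hL hA n)
  let θ : Sec hL.1 M A →ₗ[OSec hL.1 A] (Fin m → Sec hL.1 M A) := LinearMap.pi fun i => g i • LinearMap.id
  let P : Submodule (OSec hL.1 A) (Sec hL.1 M A) := LinearMap.ker θ
  have hgA : ∀ i, g i ∈ kI hL n A := fun i => hg ▸ Submodule.subset_span ⟨i, rfl⟩
  have hPK : ∀ p ∈ P, KB hL M n (p : Sec hL.1 M A) := fun p hp => by
    refine (killedBy_iff hL hA n p).2 fun c hc => ?_
    obtain ⟨d, rfl⟩ := (Submodule.mem_span_range_iff_exists_fun _).1 (hg.symm ▸ hc)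
    rw [Finset.sum_smul]
    refine Finset.sum_eq_zero fun i _ => ?_
    rw [smul_assoc, show g i • p = 0 from congrFun (LinearMap.mem_ker.1 hp) i, smul_zero]
  obtain ⟨T, rfl⟩ := hbc.2 y
  have hT : LinearMap.lTensor (OSec hL.1 B) θ T = 0 := by
    refine (TensorProduct.piRight (OSec hL.1 A) (OSec hL.1 A) (OSec hL.1 B) (fun _ : Fin m => Sec hL.1 M A)).injective ?_
    rw [map_zero]
    funext i
    refine hbc.1 ?_
    refine Eq.trans ?_ (((killedBy_iff hL hB n _).1 hy _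
      (show rsO hL l (g i) ∈ kI hL n B from map_kI hL hA hB l n ▸ Ideal.mem_map_of_mem _ (hgA i))).trans (map_zero _).symm)
    clear hy
    induction T using TensorProduct.induction_on with
    | zero => simp
    | tmul b x =>
      rw [LinearMap.lTensor_tmul, TensorProduct.piRight_apply, TensorProduct.piRightHom_tmul]
      exact bcMap_smul hL l (g i) x b
    | add x y hx hy => simp only [map_add, Pi.add_apply, smul_add, hx, hy]
  obtain ⟨T', rfl⟩ := (Module.Flat.lTensor_exact (OSec hL.1 B) (LinearMap.exact_subtype_ker_map θ) T).1 hT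
  clear hT hy
  induction T' using TensorProduct.induction_on with
  | zero => exact ⟨0, 0, (FTors.KilledBy.zero _ _ _ _), by rw [map_zero, map_zero, smul_zero]; exact rs_zero _ _⟩
  | tmul b p =>
    obtain ⟨N, a', ha'⟩ := (level_frac hL hA l a hBa).1 b
    refine ⟨N, a' • (p : Sec hL.1 M A), hPK _ (P.smul_mem a' p.2), ?_⟩
    rw [LinearMap.lTensor_tmul, bcMap_tmul, rsF_smul, Submodule.subtype_apply, smul_smul, eq_comm, ← sub_eq_zero,
      ← sub_smul]
    exact (killedBy_iff hL hB n _).1 ((hPK _ p.2).res l) _ ha'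
  | add x y hx hy =>
    obtain ⟨N, s, hs, hs'⟩ := hx
    obtain ⟨N', s', hs₂, hs₂'⟩ := hy
    refine ⟨N + N', a ^ N' • s + a ^ N • s', (hs.smul _).add (hs₂.smul _), ?_⟩
    rw [rsF, rs_add]
    change rsF hL M l _ + rsF hL M l _ = _
    rw [rsF_smul, rsF_smul, hs', hs₂', map_add, map_add, smul_add, map_pow, map_pow, smul_smul, smul_smul,
      ← pow_add, ← pow_add, add_comm N' N]

end Groth.Agent.H13FTors
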