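import Groth.Agent.H13FTors.Extend
import Groth.Agent.H14QCohFP.FSch
import Groth.Agent.H8FSch.IndQCoh

/-!
# Quasi-coherent torsion modules on a formal scheme
-/

set_option autoImplicit false
set_option linter.style.haveILetI false
set_option linter.unusedSectionVars false
set_option backward.isDefEq.respectTransparency false

universe u

open CategoryTheory CategoryTheory.Limits AlgebraicGeometry TopologicalSpace Opposite

namespace Groth.Agent.H13FTors

open H15Site.ModTensor H15Site.ModRel H15Site.LocGen H24FMod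

attribute [local instance 10000] H15Site.SiteInst.hasSheafifySite H15Site.SiteInst.hasWeakSheafifySite

variable {𝔛 : FSch.Sys.{u}} (hL : 𝔛.IsLocNoethFormal) {M : FSch.ModF 𝔛 hL.1}

theorem mono_gammaι (N : FSch.ModF 𝔛 hL.1) : Mono ((FTors.gammaTι 𝔛 hL.1).app N) := by
  haveI := (SheafOfModules.fullyFaithfulForget (ModSite.ringSh (𝔛.Osh hL.1))).faithful
  refine (forg (𝔛.Osh hL.1)).mono_of_mono_map (f := (FTors.gammaTι 𝔛 hL.1).app N) ?_
  exact ⟨fun {Z} a b e => PresheafOfModules.hom_ext fun X => ModuleCat.hom_ext (LinearMap.ext fun z =>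
    Subtype.ext (congrArg (fun k => (PresheafOfModules.Hom.app k X).hom z) e))⟩

theorem isIso_gammaι {N : FSch.ModF 𝔛 hL.1} (h : FTors.IsTorsF 𝔛 hL.1 N) :
    IsIso ((FTors.gammaTι 𝔛 hL.1).app N) := by
  haveI := mono_gammaι hL N
  haveI : Epi ((FTors.gammaTι 𝔛 hL.1).app N) := (epi_iff_locSurj _).2 fun V t =>
    ⟨⊤, GrothendieckTopology.top_mem _ V, fun W k _ => ⟨⟨_, h W _⟩, rfl⟩⟩
  exact isIso_of_mono_of_epi _

theorem isTors_gamma (N : FSch.ModF 𝔛 hL.1) : FTors.IsTorsF 𝔛 hL.1 ((FTors.gammaT 𝔛 hL.1).obj N) := fun V s => by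
  refine (Opens.grothendieckTopology _).superset_covering ?_ s.2
  rintro W g ⟨n, hn⟩
  exact ⟨n, fun W' k a ha => Subtype.ext (hn k a ha)⟩

/-- Maps out of torsion modules factor through the torsion submodule. -/
theorem exists_lift_gamma {F : FSch.ModF 𝔛 hL.1} (hF : FTors.IsTorsF 𝔛 hL.1 F) (φ : F ⟶ M) :
    ∃ ψ : F ⟶ (FTors.gammaT 𝔛 hL.1).obj M, ψ ≫ (FTors.gammaTι 𝔛 hL.1).app M = φ := by
  haveI := isIso_gammaι hL hF
  refine ⟨inv ((FTors.gammaTι 𝔛 hL.1).app F) ≫ (FTors.gammaT 𝔛 hL.1).map φ, ?_⟩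
  rw [Category.assoc, (FTors.gammaTι 𝔛 hL.1).naturality, IsIso.inv_hom_id_assoc]
  rfl

/-- A module is a filtered colimit of coherent modules if its sections locally come from coherent
modules and the kernels of maps from coherent modules are coherent. -/
theorem ind_of_hit (N : FSch.ModF 𝔛 hL.1)
    (hker : ∀ (F : FSch.ModF 𝔛 hL.1) (θ : F ⟶ N), FSch.IsCohF 𝔛 hL.1 F → FSch.IsCohF 𝔛 hL.1 (kernel θ))
    (hhit : ∀ (D : (𝔛.X 0).Opens), IsAffineOpen D → ∀ s : Sec hL.1 N D,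
      ∃ (F : FSch.ModF 𝔛 hL.1) (φ : F ⟶ N), FSch.IsCohF 𝔛 hL.1 F ∧ ∃ y, secMap φ D y = s) :
    ObjectProperty.ind.{u} (H8FSch.Coh 𝔛 hL.1) N := by
  haveI := H8FSch.isLeftAdjoint_ι' hL
  let P := ObjectProperty.ind.{u} (H8FSch.Coh 𝔛 hL.1)
  let adj := Adjunction.ofIsLeftAdjoint P.ι
  let Q := (P.ι.rightAdjoint.obj N).obj
  let η : Q ⟶ N := adj.counit.app N
  have hQ : P Q := (P.ι.rightAdjoint.obj N).property
  have hlift : ∀ (A : P.FullSubcategory) (g : A.obj ⟶ N), ∃ h : A.obj ⟶ Q, h ≫ η = g := fun A g =>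
    ⟨((adj.homEquiv A N) g).hom,
      ((adj.homEquiv_counit _ _ _).symm.trans ((adj.homEquiv A N).symm_apply_apply g) :)⟩
  have huniq : ∀ (A : P.FullSubcategory) (h h' : A.obj ⟶ Q), h ≫ η = h' ≫ η → h = h' := fun A h h' e => by
    have e₁ : (adj.homEquiv A N).symm (ObjectProperty.homMk h) = h' ≫ η := (adj.homEquiv_counit _ _ _).trans e
    have e₂ : (adj.homEquiv A N).symm (ObjectProperty.homMk h') = h' ≫ η := adj.homEquiv_counit _ _ _
    exact congrArg (fun q => q.hom) ((adj.homEquiv A N).symm.injective (e₁.trans e₂.symm))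
  have hinj : ∀ (V : (𝔛.X 0).Opens) (z : Sec hL.1 Q V), secMap η V z = 0 → z = 0 := by
    obtain ⟨Λ, _, _, pres, hD⟩ := hQ
    intro V z hz
    obtain ⟨S, hS, hS'⟩ := H15Site.ColimSect.exists_local_rep pres.isColimit (V := V) z
    refine separated_forg Q (X := op V) S hS _ _ fun W g hg => ?_
    obtain ⟨i, y, hy⟩ := hS' g hg
    rw [rs_zero]
    let θ : pres.diag.obj i ⟶ N := pres.ι.app i ≫ η
    have hK : H8FSch.Coh 𝔛 hL.1 (kernel θ) := hker _ θ (hD i)
    have h0 : kernel.ι θ ≫ pres.ι.app i = 0 := by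
      refine huniq ⟨_, (H8FSch.Coh 𝔛 hL.1).le_ind _ hK⟩ _ _ ?_
      rw [zero_comp, Category.assoc]
      exact kernel.condition θ
    have hθ : (θ.val.app (op W)).hom y = 0 := by
      show (η.val.app (op W)).hom ((pres.ι.app i).val.app (op W) y) = 0
      refine (congrArg (η.val.app (op W)).hom hy).trans ((rs_app η.val g.op z).trans ?_)
      exact (congrArg (rs _ g.op) hz).trans (rs_zero _ _)
    obtain ⟨w, hw⟩ := exists_kerSec θ (W := op W) y hθ
    refine hy.symm.trans ?_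
    rw [← hw]
    exact congrArg (fun q : kernel θ ⟶ Q => (q.val.app (op W)).hom w) h0
  haveI : Mono η := by
    haveI := (SheafOfModules.fullyFaithfulForget (ModSite.ringSh (𝔛.Osh hL.1))).faithful
    refine (forg (𝔛.Osh hL.1)).mono_of_mono_map (f := η) ?_
    exact ⟨fun {Z} a b e => PresheafOfModules.hom_ext fun X => ModuleCat.hom_ext (LinearMap.ext fun z =>
      sub_eq_zero.1 (hinj X.unop _ ((map_sub (η.val.app X).hom _ _).trans
        (sub_eq_zero.2 (congrArg (fun k => (PresheafOfModules.Hom.app k X).hom z) e)))))⟩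
  haveI : Epi η := (epi_iff_locSurj _).2 fun V t => by
    refine ⟨affSieve V, affSieve_mem V, fun W g hg => ?_⟩
    obtain ⟨D, hD, h1, h2⟩ := hg
    let s : Sec hL.1 N D := rs _ (homOfLE h2).op t
    obtain ⟨F, ψ, hF, y, hy⟩ := hhit D hD s
    obtain ⟨χ, hχ⟩ := hlift ⟨F, (H8FSch.Coh 𝔛 hL.1).le_ind _ hF⟩ ψ
    refine ⟨rs _ (homOfLE h1).op (secMap χ D y), ?_⟩
    rw [show g.op = (homOfLE h2).op ≫ (homOfLE h1).op from Subsingleton.elim _ _]
    refine (rs_app η.val (homOfLE h1).op _).trans ((congrArg (rs _ (homOfLE h1).op) ?_).trans (rs_rs _ _ _ _))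
    refine (congrArg (fun q : F ⟶ N => (q.val.app (op D)).hom y) hχ).trans ?_
    exact hy
  haveI : IsIso η := isIso_of_mono_of_epi η
  exact P.prop_of_iso (asIso η) hQ

/-- The torsion submodule of a quasi-coherent module is a filtered colimit of coherent modules. -/
theorem ind_gamma [SheafOfModules.IsQuasicoherent.{u} M] :
    ObjectProperty.ind.{u} (H8FSch.Coh 𝔛 hL.1) ((FTors.gammaT 𝔛 hL.1).obj M) := by
  let γ : (FTors.gammaT 𝔛 hL.1).obj M ⟶ M := (FTors.gammaTι 𝔛 hL.1).app M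
  haveI : Mono γ := mono_gammaι hL M
  refine ind_of_hit hL _ (fun F θ hF => ?_) fun D hD s => ?_
  · haveI : SheafOfModules.IsFinitePresentation (R := ModSite.ringSh (𝔛.Osh hL.1)) F := hF
    haveI : SheafOfModules.IsQuasicoherent.{u} F := inferInstance
    haveI := (H13FSchQCoh.isQuasicoherent_kernel_image_cokernel hL (θ ≫ γ)).1
    exact (H8FSch.Coh 𝔛 hL.1).prop_of_iso (kernelCompMono θ γ)
      (H14QCohFP.isCohF_of_mono hL hF (kernel.ι (θ ≫ γ)))
  · obtain ⟨n, hn⟩ := exists_killedBy hL hD.isCompact (isTors_gamma hL M D s)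
    obtain ⟨F, φ, hF, hFt, y, hy⟩ := exists_coh_hit hL hD (secMap γ D s) (hn.hom γ)
    obtain ⟨ψ, hψ⟩ := exists_lift_gamma hL hFt φ
    exact ⟨F, ψ, hF, y,
      injective_app_of_mono hL γ D ((congrArg (fun q : F ⟶ M => (q.val.app (op D)).hom y) hψ).trans hy)⟩

/-- The torsion submodule of a quasi-coherent module is quasi-coherent torsion. -/
theorem isQCT_gamma [SheafOfModules.IsQuasicoherent.{u} M] :
    FTors.IsQCT 𝔛 hL.1 ((FTors.gammaT 𝔛 hL.1).obj M) := by
  refine ⟨isTors_gamma hL M, ?_⟩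
  obtain ⟨Λ, _, _, pres, hp⟩ := ind_gamma hL (M := M)
  exact H8FSch.isQuasicoherent_colim hL pres.isColimit hp

/-- A quasi-coherent torsion module is a filtered colimit of coherent modules. -/
theorem ind_of_isQCT (h : FTors.IsQCT 𝔛 hL.1 M) : ObjectProperty.ind.{u} (H8FSch.Coh 𝔛 hL.1) M := by
  haveI := h.2
  haveI := isIso_gammaι hL h.1
  exact (ObjectProperty.ind.{u} (H8FSch.Coh 𝔛 hL.1)).prop_of_iso (asIso ((FTors.gammaTι 𝔛 hL.1).app M))
    (ind_gamma hL)

end Groth.Agent.H13FTors
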