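import Groth.Agent.H13FTors.Cats
import Groth.Agent.H10Coh.QcqsPush
import Groth.Agent.H16Derived.KFlat.PerfCoh
import Groth.Agent.H24FSch.Descend
import Groth.Agent.H24GE.PushLim
import Groth.Prelude.Def_FSch6

/-!
# Direct images of quasi-coherent torsion modules
-/

set_option autoImplicit false
set_option linter.style.haveILetI false
set_option linter.unusedSectionVars false
set_option backward.isDefEq.respectTransparency false

universe u

open CategoryTheory CategoryTheory.Limits AlgebraicGeometry TopologicalSpace Opposite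

namespace Groth.Agent.H13FTors

open H15Site.ModTensor H15Site.ModRel H24FMod

attribute [local instance 10000] H15Site.SiteInst.hasSheafifySite H15Site.SiteInst.hasWeakSheafifySite

variable {𝔛 : FSch.Sys.{u}} (hL : 𝔛.IsLocNoethFormal) {n : ℕ}

theorem exists_hit_push (H : (𝔛.X n).Modules) (hH : Coh.IsQCoh H) {A : (𝔛.X 0).Opens} (hA : IsAffineOpen A)
    (s : Sec hL.1 ((FSch.levelMor 𝔛 hL.1 n).push.obj H) A) :
    ∃ (F : FSch.ModF 𝔛 hL.1) (φ : F ⟶ (FSch.levelMor 𝔛 hL.1 n).push.obj H),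
      FSch.IsCohF 𝔛 hL.1 F ∧ ∃ y, secMap φ A y = s := by
  haveI := hH
  haveI := hL.2.2
  have hX : ∀ x : 𝔛.X n, ∃ W : (𝔛.X n).Opens, x ∈ W ∧ TopologicalSpace.NoetherianSpace (W : Set (𝔛.X n)) :=
    fun x => by
      obtain ⟨W, hW, hxW, -⟩ := exists_isAffineOpen_mem_and_subset (x := x) (U := (⊤ : (𝔛.X n).Opens)) trivial
      haveI := H24GE.isNoetherianRing_sections hW
      exact ⟨W, hxW, AlgebraicGeometry.noetherianSpace_of_isAffineOpen W hW⟩
  obtain ⟨G', i, -, hq, hft, g, hg⟩ := S4342.result hX H ⟨_, isAffineOpen_lvU hL hA n⟩ s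
  exact ⟨_, (FSch.levelMor 𝔛 hL.1 n).push.map i, isCohF_push hL G' ⟨hq, hft⟩, g, hg⟩

/-- The direct image of a quasi-coherent module on a level is quasi-coherent torsion. -/
theorem isQCT_push (H : (𝔛.X n).Modules) (hH : Coh.IsQCoh H) :
    FTors.IsQCT 𝔛 hL.1 ((FSch.levelMor 𝔛 hL.1 n).push.obj H) := by
  let u := FSch.levelMor 𝔛 hL.1 n
  refine (isQCT_iff hL _).2 ⟨fun W z => FTors.IsTorsSect.of_killedBy (n := n) fun W' k a ha => ?_,
    ind_of_hit hL _ (fun F θ hF => ?_) fun D hD s => exists_hit_push hL H hH hD s⟩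
  · show oP hL.1 n W' a • (show Γ(H, 𝔛.lvU hL.1 n W') from FTors.res (u.push.obj H) k z) = 0
    rw [show oP hL.1 n W' a = 0 from ha, zero_smul]
  · haveI := hH
    haveI := hL.2.2
    have hP : Coh.IsCoh (X := 𝔛.X n) (u.pull.obj F) := isCoh_pullSys hL hF n
    let P' : (𝔛.X n).Modules := u.pull.obj F
    let φ : P' ⟶ H := (u.adj.homEquiv F H).symm θ
    haveI : P'.IsQuasicoherent := hP.1
    haveI := H10Coh.isQuasicoherent_kernel φ
    let I : (𝔛.X n).Modules := Abelian.coimage φ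
    have hI : Coh.IsCoh I := ⟨H10Coh.isQuasicoherent_cokernel (kernel.ι φ),
      H16Derived.KFlat.Stalk.isFT_of_epi (Abelian.coimage.π φ) hP.2⟩
    let m : I ⟶ H := Abelian.factorThruCoimage φ
    haveI : PreservesFiniteLimits u.push := by
      haveI := u.adj.rightAdjoint_preservesLimits
      infer_instance
    haveI : Mono (u.push.map m) := inferInstance
    let θ' : F ⟶ u.push.obj I := u.adj.homEquiv F I (Abelian.coimage.π φ)
    have e : θ' ≫ u.push.map m = θ := by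
      refine (Adjunction.homEquiv_naturality_right _ _ _).symm.trans ?_
      rw [show Abelian.coimage.π φ ≫ m = φ from Abelian.coimage.fac φ]
      exact Equiv.apply_symm_apply _ _
    rw [← e]
    exact (H8FSch.Coh 𝔛 hL.1).prop_of_iso (kernelCompMono θ' (u.push.map m)).symm
      (isCohF_kernel hL hF (isCohF_push hL I hI) θ')

/-- On a quasi-compact formal scheme a coherent torsion module is annihilated by one open ideal. -/
theorem exists_kb [CompactSpace (𝔛.X 0)] (F : FSch.ModF 𝔛 hL.1) (hF : FSch.IsCohF 𝔛 hL.1 F)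
    (ht : FTors.IsTorsF 𝔛 hL.1 F) : ∃ n, ∀ (U : (𝔛.X 0).Opens) (s : Sec hL.1 F U), KB hL F n s := by
  classical
  have key : ∀ A : (𝔛.X 0).Opens, IsAffineOpen A → ∃ m, ∀ (W : (𝔛.X 0).Opens) (l : W ⟶ A), IsAffineOpen W →
      ∀ y : Sec hL.1 F W, KB hL F m y := fun A hA => by
    obtain ⟨I, K, _, _, x, r, -, hP⟩ := exists_secPres hL hF hA
    choose m hm using fun i => exists_killedBy hL hA.isCompact (ht A (x i))
    refine ⟨Finset.univ.sup m, fun W l hW y => ?_⟩
    obtain ⟨c, rfl⟩ := (hP W l hW).1 y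
    refine Finset.sum_induction _ (fun z : Sec hL.1 F W => KB hL F (Finset.univ.sup m) z) (fun _ _ => FTors.KilledBy.add)
      (FTors.KilledBy.zero _ _ _ _) fun i _ => ?_
    exact (((hm i).res l).mono (Finset.le_sup (f := m) (Finset.mem_univ i))).smul _
  choose A hA hxA using fun x : 𝔛.X 0 => (exists_isAffineOpen_mem_and_subset (x := x) (U := (⊤ : (𝔛.X 0).Opens)) trivial)
  obtain ⟨T, hT⟩ := isCompact_univ.elim_finite_subcover (fun x => (A x : Set (𝔛.X 0))) (fun x => (A x).isOpen)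
    fun x _ => Set.mem_iUnion.2 ⟨x, (hxA x).1⟩
  choose m hm using fun x => key (A x) (hA x)
  refine ⟨T.sup m, fun U s => killedBy_of_cover hL
    (S := ⟨fun Z _ => ∃ x ∈ T, ∃ W : (𝔛.X 0).Opens, IsAffineOpen W ∧ Z ≤ W ∧ W ≤ U ∧ W ≤ A x,
      fun {Z Z'} _ ⟨x, hx, W, h1, h2, h3⟩ k => ⟨x, hx, W, h1, (leOfHom k).trans h2, h3⟩⟩) ?_ ?_⟩
  · intro y hy
    obtain ⟨x, hxT, hyx⟩ := Set.mem_iUnion₂.1 (hT (Set.mem_univ y))
    obtain ⟨W, hW, hyW, hWle⟩ := exists_isAffineOpen_mem_and_subset (x := y) (U := U ⊓ A x) ⟨hy, hyx⟩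
    exact ⟨W, homOfLE (le_trans hWle inf_le_left),
      ⟨x, hxT, W, hW, le_rfl, le_trans hWle inf_le_left, le_trans hWle inf_le_right⟩, hyW⟩
  · rintro Z k ⟨x, hxT, W, hW, hZW, hWU, hWA⟩
    have h := ((hm x W (homOfLE hWA) hW (FTors.res F (homOfLE hWU) s)).res (homOfLE hZW)).mono
      (Finset.le_sup (f := m) hxT)
    rw [← FTors.res_comp] at h
    rwa [Subsingleton.elim k (homOfLE hZW ≫ homOfLE hWU)]

/-- A coherent torsion module on a quasi-compact formal scheme comes from a level. -/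
theorem exists_level [CompactSpace (𝔛.X 0)] (F : FSch.ModF 𝔛 hL.1) (hF : FSch.IsCohF 𝔛 hL.1 F)
    (ht : FTors.IsTorsF 𝔛 hL.1 F) :
    ∃ (n : ℕ) (G : (𝔛.X n).Modules), Coh.IsCoh G ∧ Nonempty ((FSch.levelMor 𝔛 hL.1 n).push.obj G ≅ F) := by
  obtain ⟨n, hK⟩ := exists_kb hL F hF ht
  let u := FSch.levelMor 𝔛 hL.1 n
  let G := levelMod hL hK
  haveI : IsIso (levelCmp hL hK) := by
    haveI := (SheafOfModules.fullyFaithfulForget (ModSite.ringSh (𝔛.Osh hL.1))).faithful
    haveI : Mono (levelCmp hL hK) := (forg (𝔛.Osh hL.1)).mono_of_mono_map (f := levelCmp hL hK)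
      ⟨fun {Z} a b h => PresheafOfModules.hom_ext fun X => ModuleCat.hom_ext (LinearMap.ext fun z =>
        (bijective_levelCmp hL hK X.unop).1 (congrArg (fun k => (PresheafOfModules.Hom.app k X).hom z) h))⟩
    haveI : Epi (levelCmp hL hK) := (H15Site.LocGen.epi_iff_locSurj _).2 fun V t =>
      ⟨⊤, GrothendieckTopology.top_mem _ V, fun W _ _ => (bijective_levelCmp hL hK W).2 _⟩
    exact isIso_of_mono_of_epi _
  haveI : u.push.Full := ⟨fun ψ => exists_push_preimage (hL := hL) ψ⟩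
  haveI : u.push.Faithful := ⟨fun h => push_map_injective (hL := hL) h⟩
  have e : u.pull.obj F ≅ (G : ModSite.Mod (𝔛.X n).sheaf) :=
    u.pull.mapIso (asIso (levelCmp hL hK)).symm ≪≫ (asIso u.adj.counit).app G
  exact ⟨n, G, H10Coh.isCoh_of_iso (X := 𝔛.X n) e (isCoh_pullSys hL hF n), ⟨asIso (levelCmp hL hK)⟩⟩

variable {𝔜 : FSch.Sys.{u}} (hY : 𝔜.IsLocNoethFormal) (f : 𝔛 ⟶ 𝔜) [CompactSpace (𝔛.X 0)]

theorem compactSpace_X (h : 𝔛.IsFormal) (k : ℕ) : CompactSpace (𝔛.X k) := (𝔛.levelHomeo h k).compactSpace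

theorem exists_iso_pushF_level (G : (𝔛.X n).Modules) :
    Nonempty ((FSch.pushF f hL.1 hY.1).obj ((FSch.levelMor 𝔛 hL.1 n).push.obj G) ≅
      (FSch.levelMor 𝔜 hY.1 n).push.obj ((Scheme.Modules.pushforward ((f : FSch.Hom 𝔛 𝔜).app n)).obj G)) :=
  ⟨(FSch.lvPushSq f hL.1 hY.1 n).app G ≪≫
    (FSch.levelMor 𝔜 hY.1 n).push.mapIso ((ModSite.RMor.ofSchemePush _).app G)⟩

/-- Direct images of quasi-coherent torsion modules are quasi-coherent torsion. -/
theorem isQCT_pushF [CompactSpace (𝔜.X 0)] (M : FSch.ModF 𝔛 hL.1) (hM : FTors.IsQCT 𝔛 hL.1 M) :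
    FTors.IsQCT 𝔜 hY.1 ((FSch.pushF f hL.1 hY.1).obj M) := by
  obtain ⟨Λ, _, _, pres, hp, hm⟩ := H8FSch.exists_monoPresentation hL (ind_of_isQCT hL hM)
  let T := FSch.pushF f hL.1 hY.1
  haveI := hY.2.2
  haveI := compactSpace_X hL.1
  haveI := hL.2.2
  haveI := hL.2.2 0
  haveI : IsNoetherian (𝔛.X 0) := {}
  have hD : ∀ j, FTors.IsQCT 𝔜 hY.1 (T.obj (pres.diag.obj j)) := fun j => by
    haveI := hm j
    have ht : FTors.IsTorsF 𝔛 hL.1 (pres.diag.obj j) := by
      refine isTors_of_exact hL (ShortComplex.mk (0 : pres.diag.obj j ⟶ pres.diag.obj j) (pres.ι.app j) zero_comp)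
        ?_ ?_ hM.1
      · exact ((ShortComplex.mk (0 : pres.diag.obj j ⟶ pres.diag.obj j) (pres.ι.app j) zero_comp).exact_iff_mono rfl).2 (hm j)
      · intro V s
        refine (Opens.grothendieckTopology _).superset_covering ?_
          (hM.1 V ((pres.ι.app j).val.app (op V) s))
        rintro W g ⟨m, hm'⟩
        refine ⟨m, fun W' l a ha => injective_app_of_mono hL (pres.ι.app j) W' ?_⟩
        refine Eq.trans ?_ ((hm' l a ha).trans (map_zero ((pres.ι.app j).val.app (op W')).hom).symm)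
        refine (((pres.ι.app j).val.app (op W')).hom.map_smul a _).trans (congrArg (a • ·) ?_)
        exact (FTors.res_hom (M := pres.diag.obj j) (N := M) (pres.ι.app j) l _).symm.trans
          (congrArg (FTors.res M l) (FTors.res_hom (M := pres.diag.obj j) (N := M) (pres.ι.app j) g s).symm)
    obtain ⟨k, G, hG, ⟨e⟩⟩ := exists_level hL (pres.diag.obj j) (hp j) ht
    obtain ⟨e'⟩ := exists_iso_pushF_level (n := k) hL hY f G
    haveI := hG.1
    haveI : IsNoetherian (𝔛.X k) := {}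
    haveI : QuasiCompact ((f : FSch.Hom 𝔛 𝔜).app k) := QuasiCompact.of_comp _ (𝔜.X k).toSpecΓ
    have hq : Coh.IsQCoh ((Scheme.Modules.pushforward ((f : FSch.Hom 𝔛 𝔜).app k)).obj G) :=
      H10Coh.isQuasicoherent_pushforward _ G
    haveI := isClosedUnderIsomorphisms_isQCT hY
    exact (FTors.IsQCT 𝔜 hY.1).prop_of_iso (e'.symm ≪≫ T.mapIso e) (isQCT_push hY _ hq)
  haveI := H10Coh.isGrothendieckAbelian_sheafOfModules (ModSite.ringSh (𝔜.Osh hY.1))
  haveI : HasColimitsOfSize.{u, u} (FSch.ModF 𝔜 hY.1) := IsGrothendieckAbelian.hasColimits _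
  haveI := isQCT_closed_colimits hY Λ
  haveI := isClosedUnderIsomorphisms_isQCT hY
  let C := colimit.cocone (pres.diag ⋙ T)
  have hC : IsColimit C := colimit.isColimit _
  let κ : C.pt ⟶ T.obj M := hC.desc (T.mapCocone pres.cocone)
  have hκ : ∀ j (W : (𝔜.X 0).Opens) (y : Sec hY.1 (T.obj (pres.diag.obj j)) W),
      secMap κ W (secMap (C.ι.app j) W y) = secMap (pres.ι.app j) (((f : FSch.Hom 𝔛 𝔜).app 0) ⁻¹ᵁ W) y :=
    fun j W y => congrArg (fun q : (pres.diag ⋙ T).obj j ⟶ T.obj M => (q.val.app (op W)).hom y)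
      (hC.fac (T.mapCocone pres.cocone) j)
  haveI : Mono κ := by
    haveI := (SheafOfModules.fullyFaithfulForget (ModSite.ringSh (𝔜.Osh hY.1))).faithful
    refine (forg (𝔜.Osh hY.1)).mono_of_mono_map (f := κ) ?_
    refine ⟨fun {Z} a b h => PresheafOfModules.hom_ext fun X => ModuleCat.hom_ext (LinearMap.ext fun z => ?_)⟩
    refine sub_eq_zero.1 ?_
    set w : Sec hY.1 C.pt X.unop := (a.app X).hom z - (b.app X).hom z
    have hw : secMap κ X.unop w = 0 := (map_sub (κ.val.app X).hom _ _).trans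
      (sub_eq_zero.2 (congrArg (fun k => (PresheafOfModules.Hom.app k X).hom z) h))
    obtain ⟨S, hS, hS'⟩ := H15Site.ColimSect.exists_local_rep hC (V := X.unop) w
    refine separated_forg C.pt (X := X) S hS _ _ fun W g hg => ?_
    obtain ⟨i, y, hy⟩ := hS' g hg
    rw [rs_zero]
    haveI := hm i
    have h0 : secMap (pres.ι.app i) (((f : FSch.Hom 𝔛 𝔜).app 0) ⁻¹ᵁ W) y = 0 := by
      refine (hκ i W y).symm.trans ((congrArg (secMap κ W) hy).trans ((rs_app κ.val g.op w).trans ?_))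
      exact (congrArg (rs _ g.op) hw).trans (rs_zero _ _)
    refine hy.symm.trans ?_
    rw [show y = 0 from injective_app_of_mono hL (pres.ι.app i) _ (h0.trans (map_zero _).symm)]
    exact map_zero _
  haveI : Epi κ := (H15Site.LocGen.epi_iff_locSurj _).2 fun V t => by
    refine ⟨affSieve V, affSieve_mem V, fun W g hg => ?_⟩
    obtain ⟨D, hD', h1, h2⟩ := hg
    obtain ⟨j, s, hs⟩ := exists_sec_rep hL pres hm (V := ((f : FSch.Hom 𝔛 𝔜).app 0) ⁻¹ᵁ D)
      (NoetherianSpace.isCompact _)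
      (rs ((forg (𝔜.Osh hY.1)).obj (T.obj M)) (homOfLE h2).op t)
    refine ⟨rs _ (homOfLE h1).op (secMap (C.ι.app j) D s), ?_⟩
    rw [show g.op = (homOfLE h2).op ≫ (homOfLE h1).op from Subsingleton.elim _ _]
    refine (rs_app κ.val (homOfLE h1).op _).trans ((congrArg (rs _ (homOfLE h1).op) ?_).trans (rs_rs _ _ _ _))
    exact (hκ j D s).trans hs
  haveI : IsIso κ := isIso_of_mono_of_epi κ
  exact (FTors.IsQCT 𝔜 hY.1).prop_of_iso (asIso κ) (ObjectProperty.prop_of_isColimit _ hC hD)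

/-- Pseudo-proper direct images of coherent torsion modules are coherent. -/
theorem isCohF_pushF (M : FSch.ModF 𝔛 hL.1) (hM : FTors.IsTorsF 𝔛 hL.1 M) (hc : FSch.IsCohF 𝔛 hL.1 M)
    (hp : IsProper ((f : FSch.Hom 𝔛 𝔜).app 0)) : FSch.IsCohF 𝔜 hY.1 ((FSch.pushF f hL.1 hY.1).obj M) := by
  obtain ⟨k, G, hG, ⟨e⟩⟩ := exists_level hL M hc hM
  obtain ⟨e'⟩ := exists_iso_pushF_level (n := k) hL hY f G
  haveI := hY.2.2
  haveI := hL.2.2
  haveI := 𝔛.toX_isClosedImmersion hL.1 k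
  haveI := 𝔜.toX_isClosedImmersion hY.1 k
  haveI : Surjective (𝔛.toX k) := ⟨𝔛.toX_surjective hL.1 k⟩
  haveI : Surjective (𝔜.toX k) := ⟨𝔜.toX_surjective hY.1 k⟩
  have hsq := (FSch.Hom.toX_comm f k).symm
  haveI := H24FSch.isSeparated_of_thickening hsq
  haveI := H24FSch.universallyClosed_of_thickening hsq
  have hlft : LocallyOfFiniteType (𝔛.toX k ≫ (f : FSch.Hom 𝔛 𝔜).app k) := by
    rw [← hsq]; infer_instance
  have hfg : ∀ U : (𝔛.X k).affineOpens, ((𝔛.toX k).ker.ideal U).FG := fun U => by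
    haveI := IsLocallyNoetherian.component_noetherian U
    exact IsNoetherian.noetherian _
  haveI : LocallyOfFiniteType ((f : FSch.Hom 𝔛 𝔜).app k) :=
    H8Props.ThickeningFiniteType.locallyOfFiniteType_of_comp_thickening _ (𝔛.toX k)
      ⟨inferInstance, inferInstance⟩ (fun U => H24FSch.isNilpotent_ker_ideal (𝔛.toX k) U (hfg U)) hfg hlft
  haveI : IsProper ((f : FSch.Hom 𝔛 𝔜).app k) := { }
  exact (H8FSch.Coh 𝔜 hY.1).prop_of_iso (e'.symm ≪≫ (FSch.pushF f hL.1 hY.1).mapIso e)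
    (isCohF_push hY _ (H24GE.isCoh_pushforward ((f : FSch.Hom 𝔛 𝔜).app k) hG))

end Groth.Agent.H13FTors
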